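import Mathlib
import Cfsg.Agent.H113.PSL.Pass
import Cfsg.Agent.H53.HC.Flag_m3
import Cfsg.Agent.H622.Levi.Chain
import Cfsg.Agent.Characters.SchurBound
import Cfsg.Agent.OddOrderCharacters.Clifford
import Cfsg.Agent.OddOrderCharacters.PF4b.Prime
import Cfsg.Agent.H53.HC.Asm
import Cfsg.Agent.H113.PSL.Theta
import Cfsg.Agent.Nodes.LeviDec
import Cfsg.Agent.FastGrp
import Cfsg.Agent.Prune
set_option linter.all false

section
prune_inst 0x7f00000000000000000000000000000000000000000000000000000000000000000000000000000000000000000000000000000000000000000000000000000000000000000000000000000000000000003fffffffffffffffffffffffffffbeffbdebfeffff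

-- part: H622/Levi/Cusp
section
set_option linter.all false
open scoped Cfsg.Agent.FastGrp

-- part: H622/Levi/Constit
section
/-!
Constituents of the restriction to `SL_n(F)` of a cuspidal character of `GL_n(F)` trivial on the scalars.
-/

set_option autoImplicit false
set_option linter.unusedSectionVars false

namespace Cfsg.Agent.H622.Levi

open Cfsg Cfsg.Agent.Characters Cfsg.Agent.Characters.Core Cfsg.Agent.H53.HC Module
open Matrix

universe u v

/-- an element in the kernel of a sum is in the kernels of the summands -/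
theorem apply_eq_of_add {S : Type u} [Group S] [Finite S] {η ψ : S → ℂ} (hη : IsCharacter S η)
    (hψ : IsCharacter S ψ) {z : S} (h : η z + ψ z = η 1 + ψ 1) : η z = η 1 := by
  obtain ⟨a, ha⟩ : ∃ a : ℕ, η 1 = a := by
    obtain ⟨n, ρ, rfl⟩ := hη
    exact ⟨n, by rw [Representation.char_one]; simp only [_root_.Module.finrank_fintype_fun_eq_card, _root_.Fintype.card_fin]⟩
  obtain ⟨b, hb⟩ : ∃ b : ℕ, ψ 1 = b := by
    obtain ⟨n, ρ, rfl⟩ := hψ
    exact ⟨n, by rw [Representation.char_one]; simp only [_root_.Module.finrank_fintype_fun_eq_card, _root_.Fintype.card_fin]⟩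
  have h1 := SchurBound.norm_le hη ha z
  have h2 := SchurBound.norm_le hψ hb z
  have h3 := (Complex.re_le_norm (η z)).trans h1
  have h4 := (Complex.re_le_norm (ψ z)).trans h2
  have h5 : (η z).re + (ψ z).re = a + b := by
    have := congrArg Complex.re h
    rw [ha, hb] at this
    simpa only [_root_.Complex.add_re, _root_.Complex.natCast_re] using this
  have h6 : (η z).re = a := by linarith
  have h7 : ‖η z‖ ^ 2 = (η z).re ^ 2 + (η z).im ^ 2 := by
    rw [← Complex.normSq_eq_norm_sq, Complex.normSq_apply]; ring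
  have h8 : (η z).im = 0 := by
    have h9 : ‖η z‖ ^ 2 ≤ (a : ℝ) ^ 2 := by
      apply pow_le_pow_left₀ (norm_nonneg _) h1
    have h10 : (η z).im ^ 2 ≤ 0 := by rw [h7, h6] at h9; linarith
    exact pow_eq_zero_iff (two_ne_zero) |>.1 (le_antisymm h10 (sq_nonneg _))
  rw [ha]
  apply Complex.ext
  · rw [h6]; simp
  · rw [h8]; simp

/-- the sum of a character over a subgroup is a non-negative multiple of the order -/
theorem sum_subgroup {S : Type u} [Group S] [Finite S] {η : S → ℂ} (hη : IsCharacter S η) (U : Subgroup S)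
    [Fintype U] : ∃ a : ℕ, ∑ u : U, η u = (Nat.card U : ℂ) * a := by
  have h1 : IsCharacter U (η ∘ U.subtype) := isCharacter_comp _ hη
  have h2 : IsCharacter U (fun _ => (1 : ℂ)) := isIrr_isCharacter isIrr_one
  obtain ⟨a, ha⟩ := classInner_isNat h1 h2
  refine ⟨a, ?_⟩
  rw [← ha, classInner_def, Nat.card_eq_fintype_card, ← mul_assoc, mul_inv_cancel₀, one_mul]
  · refine Finset.sum_congr rfl fun u _ => ?_
    rw [map_one, mul_one]
    rfl
  · have : (Fintype.card U) ≠ 0 := Fintype.card_ne_zero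
    exact_mod_cast this

theorem sum_eq_zero_of_add {S : Type u} [Group S] [Finite S] {η ψ : S → ℂ} (hη : IsCharacter S η)
    (hψ : IsCharacter S ψ) (U : Subgroup S) [Fintype U] (h : ∑ u : U, (η u + ψ u) = 0) : ∑ u : U, η u = 0 := by
  obtain ⟨a, ha⟩ := sum_subgroup hη U
  obtain ⟨b, hb⟩ := sum_subgroup hψ U
  rw [Finset.sum_add_distrib, ha, hb, ← mul_add] at h
  have hU : (Nat.card U : ℂ) ≠ 0 := by exact_mod_cast Nat.card_pos.ne'
  rcases mul_eq_zero.1 h with h1 | h1
  · exact absurd h1 hU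
  · have h2 : a + b = 0 := by exact_mod_cast h1
    rw [ha, show a = 0 by omega, Nat.cast_zero, mul_zero]

/-- **Restriction along a homomorphism with normal image**, with the constituent. -/
theorem exists_con {S : Type u} {Q : Type v} [Group S] [Group Q] [Finite S] [Finite Q] (f : S →* Q)
    (hn : f.range.Normal) {χ : Q → ℂ} (hχ : IsIrrCharacter Q χ) {d : ℕ} (hd : χ 1 = d) :
    ∃ (η : S → ℂ) (e t : ℕ), IsIrrCharacter S η ∧ IsCharacter S (χ ∘ f - η) ∧ η 1 = e ∧ e * t = d ∧
      t ∣ f.range.index := by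
  classical
  have : Fintype S := Fintype.ofFinite S
  have : Fintype Q := Fintype.ofFinite Q
  have : Fintype f.range := Fintype.ofFinite _
  have hres : IsCharacter f.range (fun n : f.range => χ n) :=
    isCharacter_comp f.range.subtype (isIrr_isCharacter hχ)
  have h0 : (fun n : f.range => χ n) ≠ 0 := by
    intro h
    have := congrFun h 1
    exact isIrr_apply_one_ne_zero hχ this
  obtain ⟨θ, hθ, hne⟩ := Cfsg.Agent.H113.NormTwoChar.exists_constituent hres h0
  obtain ⟨e, he0, he⟩ := isIrr_apply_one hθ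
  obtain ⟨h1, h2⟩ := Cfsg.Agent.S0887.result f.range χ hχ θ hθ hne d e hd he
  have hsub : IsCharacter f.range ((fun n : f.range => χ n) - θ) :=
    Cfsg.Agent.OddOrderCharacters.Clifford.isCharacter_sub_irr hres hθ hne
  have hφ : IsIrrCharacter S (θ ∘ f.rangeRestrict) := isIrr_comp f.rangeRestrict f.rangeRestrict_surjective hθ
  refine ⟨θ ∘ f.rangeRestrict, e, d / e, hφ, isCharacter_comp f.rangeRestrict hsub, ?_,
    Nat.mul_div_cancel' h1, h2⟩
  rw [Function.comp_apply, map_one, he]

variable {m : ℕ} {F : Type u} [Field F] [Finite F]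

/-- the space of the first `i + 1` coordinates -/
def firstC (F : Type u) [Field F] (i : Fin m) : Submodule F (Fin (m + 1) → F) where
  carrier := {v | ∀ j : Fin (m + 1), i.val < j.val → v j = 0}
  zero_mem' := fun _ _ => rfl
  add_mem' := fun {v w} hv hw j hj => by rw [Pi.add_apply, hv j hj, hw j hj, add_zero]
  smul_mem' := fun c v hv j hj => by rw [Pi.smul_apply, hv j hj, smul_zero]

theorem mem_firstC {i : Fin m} {v : Fin (m + 1) → F} : v ∈ firstC F i ↔ ∀ j : Fin (m + 1), i.val < j.val → v j = 0 :=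
  Iff.rfl

theorem single_mem_firstC {i : Fin m} {s : Fin (m + 1)} (hs : s.val ≤ i.val) :
    (Pi.single s 1 : Fin (m + 1) → F) ∈ firstC F i := by
  intro j hj
  rw [Pi.single_eq_of_ne]
  rintro rfl
  omega

theorem firstC_ne_bot (i : Fin m) : firstC F i ≠ ⊥ := by
  intro h
  have h1 : (Pi.single i.castSucc 1 : Fin (m + 1) → F) ∈ firstC F i := single_mem_firstC (by rw [Fin.val_castSucc])
  rw [h, Submodule.mem_bot] at h1
  have := congrFun h1 i.castSucc
  rw [Pi.single_eq_same] at this
  exact one_ne_zero this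

theorem firstC_ne_top (i : Fin m) : firstC F i ≠ ⊤ := by
  intro h
  have h1 : (Pi.single i.succ 1 : Fin (m + 1) → F) ∈ firstC F i := by rw [h]; trivial
  have := h1 i.succ (by rw [Fin.val_succ]; omega)
  rw [Pi.single_eq_same] at this
  exact one_ne_zero this

theorem toLin'_mem_radU {i : Fin m} {g : _root_.Matrix.SpecialLinearGroup (Fin (m + 1)) F} (hg : g ∈ UU F i) :
    SpecialLinearGroup.toLin' g ∈ radU (firstC F i) := by
  rw [mem_UU] at hg
  rw [mem_radU]
  have key : ∀ (w : Fin (m + 1) → F) (r : Fin (m + 1)), (SpecialLinearGroup.toLin' g) w r =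
      w r + ∑ s, (if r.val ≤ i.val ∧ i.val < s.val then g.1 r s else 0) * w s := by
    intro w r
    rw [SpecialLinearGroup.toLin'_apply, Matrix.toLin'_apply]
    change ∑ s, g.1 r s * w s = _
    have h1 : ∀ s, g.1 r s * w s = (if r = s then w s else 0) +
        (if r.val ≤ i.val ∧ i.val < s.val then g.1 r s else 0) * w s := by
      intro s
      by_cases h : r.val ≤ i.val ∧ i.val < s.val
      · rw [if_pos h, if_neg (by rintro rfl; omega), zero_add]
      · rw [if_neg h, hg r s h, zero_mul, add_zero, Matrix.one_apply]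
        split_ifs <;> ring
    rw [Finset.sum_congr rfl fun s _ => h1 s, Finset.sum_add_distrib, Finset.sum_ite_eq, if_pos (Finset.mem_univ _)]
  constructor
  · intro w j hj
    rw [Pi.sub_apply, key, add_sub_cancel_left]
    refine Finset.sum_eq_zero fun s _ => ?_
    rw [if_neg (by omega), zero_mul]
  · intro d hd
    funext r
    rw [key]
    have : ∑ s, (if r.val ≤ i.val ∧ i.val < s.val then g.1 r s else 0) * d s = 0 := by
      refine Finset.sum_eq_zero fun s _ => ?_
      by_cases h : i.val < s.val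
      · rw [hd s h, mul_zero]
      · rw [if_neg (fun h1 => h h1.2), zero_mul]
    rw [this, add_zero]

/-- the sum of a cuspidal function over the block unipotent subgroup -/
theorem sum_UU {Ψ : GL (Fin (m + 1)) F → ℂ} (hΨ : IsClassFunction _ Ψ) (hc : _root_.Cfsg.Agent.H53.HC.IsCusp Ψ) (i : Fin m)
    [Fintype (UU F i)] : ∑ g : UU F i, Ψ (SpecialLinearGroup.toGL (g : _root_.Matrix.SpecialLinearGroup (Fin (m + 1)) F)) = 0 := by
  classical
  have hfe : Finite ((Fin (m + 1) → F) ≃ₗ[F] (Fin (m + 1) → F)) := DFunLike.finite _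
  have : Fintype (radU (firstC F i)) := Fintype.ofFinite _
  rw [← hc (firstC F i) (firstC_ne_bot i) (firstC_ne_top i)]
  have hcl : ∀ g : _root_.Matrix.SpecialLinearGroup (Fin (m + 1)) F, cl Ψ (SpecialLinearGroup.toLin' g) =
      Ψ (SpecialLinearGroup.toGL g) := by
    intro g
    rw [cl_eq hΨ (Pi.basisFun F (Fin (m + 1)))]
    congr 1
    ext r s
    rw [coe_glE, LinearMap.toMatrix_eq_toMatrix']
    change LinearMap.toMatrix' (Matrix.toLin' g.1) r s = g.1 r s
    rw [LinearMap.toMatrix'_toLin']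
  refine Fintype.sum_bijective (fun g : UU F i => (⟨_, toLin'_mem_radU g.2⟩ : radU (firstC F i))) ⟨?_, ?_⟩ _ _
    fun g => (hcl g).symm
  · intro g g' h
    have h1 : SpecialLinearGroup.toLin' (g : _root_.Matrix.SpecialLinearGroup (Fin (m + 1)) F) = SpecialLinearGroup.toLin' g'.1 :=
      congrArg Subtype.val h
    exact Subtype.ext (SpecialLinearGroup.toLin'_injective h1)
  · rintro ⟨u, hu⟩
    rw [mem_radU] at hu
    let A : Matrix (Fin (m + 1)) (Fin (m + 1)) F := LinearMap.toMatrix' (u : (Fin (m + 1) → F) →ₗ[F] _)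
    have hA : ∀ r s, A r s = u (Pi.single s 1) r := fun r s => LinearMap.toMatrix'_apply _ _ _
    have hshape : ∀ r s : Fin (m + 1), ¬ (r.val ≤ i.val ∧ i.val < s.val) →
        A r s = (1 : Matrix (Fin (m + 1)) (Fin (m + 1)) F) r s := by
      intro r s hrs
      rw [hA, Matrix.one_apply]
      by_cases hs : s.val ≤ i.val
      · rw [hu.2 _ (single_mem_firstC hs), Pi.single_apply]
      · have h1 := hu.1 (Pi.single s 1) r (by omega)
        rw [Pi.sub_apply, sub_eq_zero] at h1
        rw [h1, Pi.single_apply]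
    have hAb : A = 1 + blkP i A := by
      ext r s
      rw [Matrix.add_apply, blkP_apply]
      split_ifs with h
      · rw [Matrix.one_apply_ne (by rintro rfl; omega), zero_add]
      · rw [hshape r s h, add_zero]
    let g : _root_.Matrix.SpecialLinearGroup (Fin (m + 1)) F := ⟨A, by rw [hAb]; exact det_blkP i A⟩
    refine ⟨⟨g, mem_UU.2 hshape⟩, Subtype.ext ?_⟩
    apply LinearEquiv.toLinearMap_injective
    change Matrix.toLin' A = (u : (Fin (m + 1) → F) →ₗ[F] _)
    exact Matrix.toLin'_toMatrix' _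

/-- **Constituents of the restriction to `SL_n`.** -/
theorem exists_sl_con {Ψ : GL (Fin (m + 1)) F → ℂ} (hm : 1 ≤ m) (hΨ : IsIrrCharacter _ Ψ) (hc : _root_.Cfsg.Agent.H53.HC.IsCusp Ψ)
    (hz : ∀ c : Fˣ, Ψ (GeneralLinearGroup.scalar (Fin (m + 1)) c) = Ψ 1) {d : ℕ} (hd : Ψ 1 = d) :
    ∃ (η : _root_.Matrix.SpecialLinearGroup (Fin (m + 1)) F → ℂ) (e t : ℕ), IsIrrCharacter _ η ∧
      IsCharacter _ (Ψ ∘ SpecialLinearGroup.toGL - η) ∧
      (∀ z ∈ Subgroup.center (_root_.Matrix.SpecialLinearGroup (Fin (m + 1)) F), η z = η 1) ∧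
      (∀ i : Fin m, ∀ [Fintype (UU F i)], ∑ g : UU F i, η g = 0) ∧
      η 1 = e ∧ e * t = d ∧ t ∣ Nat.gcd (m + 1) (Nat.card F - 1) := by
  classical
  have : Fintype F := Fintype.ofFinite F
  obtain ⟨χ', h1, h2⟩ := H113.PSL.Pass.exists_pgl hΨ hz
  have : Finite (ProjGenLinGroup (Fin (m + 1)) F) := Finite.of_surjective _ ProjGenLinGroup.mk_surjective
  let f : _root_.Matrix.SpecialLinearGroup (Fin (m + 1)) F →* ProjGenLinGroup (Fin (m + 1)) F :=
    ProjGenLinGroup.mk.comp SpecialLinearGroup.toGL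
  have hf : f.range = (ProjectiveSpecialLinearGroup.toPGL (n := Fin (m + 1)) (R := F)).range := by
    ext x
    constructor
    · rintro ⟨g, rfl⟩
      exact ⟨QuotientGroup.mk g, rfl⟩
    · rintro ⟨g, rfl⟩
      obtain ⟨g, rfl⟩ := QuotientGroup.mk_surjective g
      exact ⟨g, rfl⟩
  obtain ⟨η, e, t, h3, h4, h5, h6, h7⟩ := exists_con f (by rw [hf]; exact H113.PSL.Pass.range_toPGL_normal)
    h1 (d := d) (by rw [← hd, h2, Function.comp_apply, map_one])
  have hcomp : χ' ∘ f = Ψ ∘ SpecialLinearGroup.toGL := by rw [h2]; rfl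
  rw [hcomp] at h4
  refine ⟨η, e, t, h3, h4, ?_, ?_, h5, h6, ?_⟩
  · intro z hz'
    refine apply_eq_of_add (isIrr_isCharacter h3) h4 ?_
    rw [Pi.sub_apply, Pi.sub_apply, add_sub_cancel, add_sub_cancel, Function.comp_apply, Function.comp_apply, map_one]
    rw [← SpecialLinearGroup.toGL_mem_center_iff, GeneralLinearGroup.center_eq_range_scalar] at hz'
    obtain ⟨c, hc'⟩ := hz'
    rw [← hc', hz]
  · intro i _
    refine sum_eq_zero_of_add (isIrr_isCharacter h3) h4 (UU F i) ?_
    rw [← sum_UU (isIrr_isClassFunction hΨ) hc i]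
    refine Finset.sum_congr rfl fun g _ => ?_
    rw [Pi.sub_apply, add_sub_cancel, Function.comp_apply]
  · rw [hf, H113.PSL.Pass.index_range_toPGL (by omega)] at h7
    rwa [Nat.card_eq_fintype_card]

end Cfsg.Agent.H622.Levi
end

-- part: H622/Levi/Desc
section
/-!
Cuspidal characters of the Levi subgroups of type `A_m` of a root group datum.

* `exists_descend` : a character of `SL_{m+1}(F)` trivial on the centre with zero sums over the block unipotents
  descends to a cuspidal character of `MJ`.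
* `exists_cusp_chain` : existence of cuspidal characters for chains, with their degree.
-/

set_option autoImplicit false
set_option linter.unusedSectionVars false

namespace Cfsg.Agent.H622.Levi

open Cfsg Cfsg.Agent.Characters CoxeterSystem Cfsg.Agent.ChevalleyStructure.CoxeterGeom Cfsg.Agent.Tits.Roots
  Cfsg.Agent.Tits.Core Cfsg.Agent.Nodes.Reps Cfsg.Agent.Nodes.BNOf Cfsg.Agent.Nodes.StabComb
open Cfsg.Agent.LieRecognition.BNCox (cA)
open Matrix

section central

variable {m : ℕ} {F : Type*} [Field F] {Y : Type*} [Group Y]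

theorem transvection_scalar {n : ℕ} {a b : Fin n} (hab : a ≠ b) (t : F) {g : _root_.Matrix.SpecialLinearGroup (Fin n) F} {c : F}
    (hc : (g * SpecialLinearGroup.transvection hab t * g⁻¹ : _root_.Matrix.SpecialLinearGroup (Fin n) F).1 =
      c • (SpecialLinearGroup.transvection hab t).1) : c = 1 := by
  let N : Matrix (Fin n) (Fin n) F := Matrix.single a b t
  have hN : N * N = 0 := by
    change Matrix.single a b t * Matrix.single a b t = 0
    rw [Matrix.single_mul_single_of_ne _ _ _ _ hab.symm]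
  have e1 : (SpecialLinearGroup.transvection hab t).1 = 1 + N := rfl
  have e2 : (g * SpecialLinearGroup.transvection hab t * g⁻¹ : _root_.Matrix.SpecialLinearGroup (Fin n) F).1 =
      1 + g.1 * N * (g⁻¹).1 := by
    change g.1 * (1 + N) * (g⁻¹).1 = _
    rw [mul_add, add_mul, mul_one]
    congr 1
    have : g.1 * (g⁻¹).1 = (g * g⁻¹).1 := rfl
    rw [this, mul_inv_cancel]
    rfl
  have e3 : (g.1 * N * (g⁻¹).1) * (g.1 * N * (g⁻¹).1) = 0 := by
    have h1 : (g⁻¹).1 * g.1 = 1 := by
      have : (g⁻¹).1 * g.1 = (g⁻¹ * g).1 := rfl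
      rw [this, inv_mul_cancel]
      rfl
    calc (g.1 * N * (g⁻¹).1) * (g.1 * N * (g⁻¹).1) = g.1 * N * ((g⁻¹).1 * g.1) * N * (g⁻¹).1 := by
          simp only [Matrix.mul_assoc]
      _ = 0 := by rw [h1, Matrix.mul_one, Matrix.mul_assoc g.1 N N, hN, Matrix.mul_zero, Matrix.zero_mul]
  rw [e2, e1] at hc
  have e4 : g.1 * N * (g⁻¹).1 = (c - 1) • (1 : Matrix (Fin n) (Fin n) F) + c • N := by
    have : g.1 * N * (g⁻¹).1 = (1 + g.1 * N * (g⁻¹).1) - 1 := by abel
    rw [this, hc, smul_add, sub_smul, one_smul]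
    abel
  rw [e4] at e3
  have e5 : ((c - 1) • (1 : Matrix (Fin n) (Fin n) F) + c • N) * ((c - 1) • (1 : Matrix (Fin n) (Fin n) F) + c • N) =
      ((c - 1) * (c - 1)) • (1 : Matrix (Fin n) (Fin n) F) + (2 * (c - 1) * c) • N := by
    rw [add_mul, mul_add, mul_add]
    simp only [Matrix.smul_mul, Matrix.mul_smul, Matrix.one_mul, Matrix.mul_one, hN, smul_zero, add_zero, smul_smul]
    rw [add_assoc, ← add_smul]
    congr 2
    ring
  rw [e5] at e3
  have e6 := congrFun (congrFun e3 a) a
  rw [Matrix.add_apply, Matrix.smul_apply, Matrix.smul_apply, Matrix.one_apply_eq] at e6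
  have e7 : N a a = 0 := by
    change Matrix.single a b t a a = 0
    rw [Matrix.single_apply, if_neg (fun h => hab h.2.symm)]
  rw [e7, smul_zero, add_zero, smul_eq_mul, mul_one, Matrix.zero_apply] at e6
  exact sub_eq_zero.1 (mul_self_eq_zero.1 e6)

/-- elements central modulo scalars are central -/
theorem mem_center_of_ker (hm : 0 < m) {φ : _root_.Matrix.SpecialLinearGroup (Fin (m + 1)) F →* Y}
    (hker : φ.ker ≤ Subgroup.center (_root_.Matrix.SpecialLinearGroup (Fin (m + 1)) F)) {g : _root_.Matrix.SpecialLinearGroup (Fin (m + 1)) F}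
    (hg : ∀ s, φ g * φ s = φ s * φ g) : g ∈ Subgroup.center (_root_.Matrix.SpecialLinearGroup (Fin (m + 1)) F) := by
  have : Nontrivial (Fin (m + 1)) := Fin.nontrivial_iff_two_le.2 (by omega)
  rw [Subgroup.mem_center_iff]
  intro s
  refine Cfsg.Agent.LieClassical.SLGen.transvection_induction (fun s => s * g = g * s) ?_ ?_ s
  · intro a b hab t
    have h1 : g * SpecialLinearGroup.transvection hab t * g⁻¹ * (SpecialLinearGroup.transvection hab t)⁻¹ ∈ φ.ker := by
      rw [MonoidHom.mem_ker, map_mul, map_mul, map_mul, map_inv, map_inv, hg]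
      group
    have h2 := hker h1
    rw [Matrix.SpecialLinearGroup.mem_center_iff] at h2
    obtain ⟨c, -, hc⟩ := h2
    have h3 : (g * SpecialLinearGroup.transvection hab t * g⁻¹ : _root_.Matrix.SpecialLinearGroup (Fin (m + 1)) F).1 =
        c • (SpecialLinearGroup.transvection hab t).1 := by
      have h4 : g * SpecialLinearGroup.transvection hab t * g⁻¹ =
          (g * SpecialLinearGroup.transvection hab t * g⁻¹ * (SpecialLinearGroup.transvection hab t)⁻¹) *
            SpecialLinearGroup.transvection hab t := by group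
      rw [h4]
      change (g * SpecialLinearGroup.transvection hab t * g⁻¹ *
        (SpecialLinearGroup.transvection hab t)⁻¹ : _root_.Matrix.SpecialLinearGroup (Fin (m + 1)) F).1 * _ = _
      rw [← hc, Matrix.scalar_apply, Matrix.smul_eq_diagonal_mul]
    have h5 := transvection_scalar hab t h3
    rw [h5, one_smul] at h3
    have h6 : g * SpecialLinearGroup.transvection hab t * g⁻¹ = SpecialLinearGroup.transvection hab t := Subtype.ext h3
    rw [mul_inv_eq_iff_eq_mul] at h6
    exact h6.symm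
  · intro s s' h1 h2
    rw [mul_assoc, h2, ← mul_assoc, h1, mul_assoc]

theorem UU_inf_center {i : Fin m} {g : _root_.Matrix.SpecialLinearGroup (Fin (m + 1)) F} (hg : g ∈ UU F i)
    (hc : g ∈ Subgroup.center (_root_.Matrix.SpecialLinearGroup (Fin (m + 1)) F)) : g = 1 := by
  rw [Matrix.SpecialLinearGroup.mem_center_iff] at hc
  obtain ⟨c, -, hc⟩ := hc
  rw [mem_UU] at hg
  have h1 : g.1 0 0 = 1 := by
    rw [hg 0 0 (by simp), Matrix.one_apply_eq]
  have h2 : c = 1 := by
    rw [← hc] at h1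
    simpa using h1
  apply Subtype.ext
  rw [← hc, h2, map_one]
  rfl

end central

variable {I W Y : Type*} [Fintype I] [DecidableEq I] [Group W] [Group Y] {M : CoxeterMatrix I}
  {cs : CoxeterSystem M W} {A : I → I → ℤ} {h : IsCartan M A} {p : ℕ} {T : Subgroup Y} {n : I → Y}
  {X : (I → ℤ) → Subgroup Y} {m : ℕ} {k : Fin m ↪ I} {F : Type} [Field F] [Finite F]
  {φ : _root_.Matrix.SpecialLinearGroup (Fin (m + 1)) F →* Y}

/-- **Descent of characters.** -/
theorem exists_descend [Finite W] [Finite Y] (C : Co X k F φ) (hk : ∀ i j, M (k i) (k j) = cA m i j) (hm : 1 ≤ m)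
    {η : _root_.Matrix.SpecialLinearGroup (Fin (m + 1)) F → ℂ} (hη : IsIrrCharacter _ η)
    (hz : ∀ z ∈ Subgroup.center (_root_.Matrix.SpecialLinearGroup (Fin (m + 1)) F), η z = η 1)
    (hs : ∀ i : Fin m, ∀ [Fintype (UU F i)], ∑ g : UU F i, η g = 0) :
    ∃ θ : ↥(H53.HC.MJ cs h X (Set.range k)) → ℂ, H53.HC.Cusp cs h X (Set.range k) θ ∧
      ∀ (g : _root_.Matrix.SpecialLinearGroup (Fin (m + 1)) F) (x : ↥(H53.HC.MJ cs h X (Set.range k))), (x : Y) = φ g →
        θ x = η g := by
  have hran : φ.range = H53.HC.MJ cs h X (Set.range k) := C.range hk hm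
  let f : _root_.Matrix.SpecialLinearGroup (Fin (m + 1)) F →* ↥(H53.HC.MJ cs h X (Set.range k)) :=
    φ.codRestrict _ fun g => hran ▸ ⟨g, rfl⟩
  have hf : Function.Surjective f := by
    rintro ⟨y, hy⟩
    rw [← hran] at hy
    obtain ⟨g, rfl⟩ := hy
    exact ⟨g, rfl⟩
  have hfv : ∀ g, (f g : Y) = φ g := fun g => rfl
  obtain ⟨θ, hθ, hv⟩ := OddOrderCharacters.PF9.Reducible.exists_of_surjective f hf hη (by
    intro g hg
    refine hz g (C.ker ?_)
    rw [MonoidHom.mem_ker, ← hfv, hg]
    rfl)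
  have h1 : θ 1 = η 1 := by rw [← hv, map_one]
  refine ⟨θ, ⟨hθ, ?_, ?_⟩, ?_⟩
  · intro z hz' x
    refine OddOrderCharacters.PF4b.Prime.char_mul_of_ker (Core.isIrr_isCharacter hθ) ?_ x
    obtain ⟨g, rfl⟩ := hf z
    rw [hv, h1]
    refine hz g (mem_center_of_ker hm C.ker fun s => ?_)
    rw [Subgroup.mem_center_iff] at hz'
    exact (congrArg Subtype.val (hz' (f s))).symm
  · rintro _ ⟨i, rfl⟩ _
    classical
    have hfin : Fintype (UU F i) := Fintype.ofFinite _
    rw [← hs i]
    symm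
    have hmem : ∀ g : UU F i, φ g ∈ H53.HC.rad cs h X (Set.range k) (k i) := by
      intro g
      have h2 : φ g ∈ (UU F i).map φ := ⟨g, g.2, rfl⟩
      rw [C.map_UU (cs := cs) (h := h) hk i] at h2
      exact h2
    refine Fintype.sum_bijective (fun g : UU F i => (⟨φ g, hmem g⟩ : H53.HC.rad cs h X (Set.range k) (k i)))
      ⟨?_, ?_⟩ _ _ ?_
    · intro g g' hgg
      have h2 : φ g = φ g' := congrArg Subtype.val hgg
      have h3 : (g : _root_.Matrix.SpecialLinearGroup (Fin (m + 1)) F)⁻¹ * g' ∈ φ.ker := by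
        rw [MonoidHom.mem_ker, map_mul, map_inv, h2, inv_mul_cancel]
      have h4 := UU_inf_center (mul_mem (inv_mem g.2) g'.2) (C.ker h3)
      exact Subtype.ext (inv_mul_eq_one.1 h4)
    · rintro ⟨y, hy⟩
      have h2 : y ∈ (UU F i).map φ := by
        rw [C.map_UU (cs := cs) (h := h) hk i]
        exact hy
      obtain ⟨g, hg, rfl⟩ := h2
      exact ⟨⟨g, hg⟩, rfl⟩
    · intro g
      rw [← hv]
      rfl
  · intro g x hx
    rw [← hv]
    congr 1
    exact Subtype.ext (hx.trans (hfv g).symm)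

/-- **Cuspidal characters for chains**, from a group homomorphism. -/
theorem exists_cusp_of_co [Finite W] [Finite Y] (C : Co X k F φ) (hk : ∀ i j, M (k i) (k j) = cA m i j)
    (hm : 1 ≤ m) :
    ∃ (θ : ↥(H53.HC.MJ cs h X (Set.range k)) → ℂ) (e t : ℕ), H53.HC.Cusp cs h X (Set.range k) θ ∧
      θ 1 = e ∧ e * t = ∏ i ∈ Finset.range m, (Nat.card F ^ (i + 1) - 1) ∧ t ∣ Nat.gcd (m + 1) (Nat.card F - 1) := by
  obtain ⟨L, _, _, _, hL⟩ : ∃ (L : Type) (_ : Field L) (_ : Algebra F L) (_ : Finite L),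
      Module.finrank F L = m + 1 := by
    obtain ⟨p, hp⟩ := CharP.exists F
    have : Fact p.Prime := ⟨CharP.char_is_prime F p⟩
    have : NeZero (m + 1) := ⟨by omega⟩
    exact ⟨FiniteField.Extension F p (m + 1), inferInstance, inferInstance, inferInstance,
      FiniteField.finrank_extension F p (m + 1)⟩
  obtain ⟨θ, h1, h2⟩ := H113.PSL.Theta.exists_theta (F := F) (L := L) (n := m + 1) (by omega) hL
  have hreg : H139.Cusp.Regular F (m + 1) θ := fun i hi hin => by
    obtain ⟨x, hx⟩ := h2 i hi hin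
    exact ⟨x, hx.symm⟩
  have hirr := H139.Cusp.psi_isIrr θ hL hreg
  obtain ⟨η, e, t, h3, -, h4, h5, h6, h7, h8⟩ := exists_sl_con hm hirr (H139.Cusp.psi_isCusp L θ)
    (fun c => by
      have := H139.Cusp.psi_scalar θ hL c 1
      rw [mul_one] at this
      rw [this, h1 c c.ne_zero, one_mul])
    (H139.Cusp.psi_one L θ (by omega))
  obtain ⟨θ', h9, h10⟩ := exists_descend (cs := cs) (h := h) C hk hm h3 h4 h5
  exact ⟨θ', e, t, h9, (h10 1 1 (map_one φ).symm).trans h6, h7, h8⟩

end Cfsg.Agent.H622.Levi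
end

-- part: H622/Levi/Cusp
section
/-!
Cuspidal characters of the type `A` Levi subgroups of root group data: existence and degree.

* `cusp_chain` : chains of `m ≥ 2` nodes; `cusp_node` : a node with a simply joined neighbour.
-/

set_option autoImplicit false
set_option linter.unusedSectionVars false

namespace Cfsg.Agent.H622.Levi

open Cfsg Cfsg.Agent.Characters CoxeterSystem Cfsg.Agent.ChevalleyStructure.CoxeterGeom Cfsg.Agent.Tits.Roots
  Cfsg.Agent.Tits.Core Cfsg.Agent.Nodes.Reps Cfsg.Agent.Nodes.BNOf Cfsg.Agent.Nodes.StabComb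
open Cfsg.Agent.LieRecognition.BNCox (cA)
open Matrix

variable {I W Y : Type*} [Fintype I] [DecidableEq I] [Group W] [Group Y] {M : CoxeterMatrix I}
  {cs : CoxeterSystem M W} {A : I → I → ℤ} {h : IsCartan M A} {p : ℕ} {T : Subgroup Y} {n : I → Y}
  {X : (I → ℤ) → Subgroup Y}

/-- the order of the root groups is the order of the field -/
theorem Co.card {m : ℕ} {k : Fin m → I} {F : Type} [Field F] {φ : _root_.Matrix.SpecialLinearGroup (Fin (m + 1)) F →* Y}
    (C : Co X k F φ) (i : Fin m) : Nat.card (X (sr (k i))) = Nat.card F := by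
  have hne : i.castSucc ≠ i.succ := (Fin.castSucc_lt_succ (i := i)).ne
  have h1 := C.root _ _ hne
  rw [cr_succ] at h1
  have hinj : Function.Injective fun t : F => φ (SpecialLinearGroup.transvection hne t) := by
    intro s t hst
    have h2 : (SpecialLinearGroup.transvection hne s)⁻¹ * SpecialLinearGroup.transvection hne t ∈ φ.ker := by
      rw [MonoidHom.mem_ker, map_mul, map_inv]
      exact inv_mul_eq_one.2 hst
    have h3 : ∀ c : F, SpecialLinearGroup.transvection hne c ∈ UU F i := fun c =>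
      transvection_mem_UU hne ⟨by rw [Fin.val_castSucc], by rw [Fin.val_succ]; omega⟩ c
    have h4 := inv_mul_eq_one.1 (UU_inf_center (mul_mem (inv_mem (h3 s)) (h3 t)) (C.ker h2))
    have h5 := congrFun (congrFun (congrArg Subtype.val h4) i.castSucc) i.succ
    change (1 + Matrix.single i.castSucc i.succ s : Matrix _ _ F) i.castSucc i.succ =
      (1 + Matrix.single i.castSucc i.succ t : Matrix _ _ F) i.castSucc i.succ at h5
    rw [Matrix.add_apply, Matrix.add_apply, Matrix.single_apply_same, Matrix.single_apply_same] at h5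
    exact add_left_cancel h5
  have h6 : Nat.card (X (sr (k i))) = Nat.card (Set.range fun t : F => φ (SpecialLinearGroup.transvection hne t)) := by
    rw [← h1]
    rfl
  rw [h6]
  exact Nat.card_range_of_injective hinj

/-- **Cuspidal characters for chains of nodes.** -/
theorem cusp_chain [Finite W] [Finite Y] (R : RGD cs h p T n X) {m : ℕ} (hm : 2 ≤ m) (k : Fin m ↪ I)
    (hk : ∀ i j, M (k i) (k j) = cA m i j) {q : ℕ} (i₀ : Fin m) (hq : Nat.card (X (sr (k i₀))) = q) :
    ∃ (θ : ↥(H53.HC.MJ cs h X (Set.range k)) → ℂ) (e t : ℕ), H53.HC.Cusp cs h X (Set.range k) θ ∧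
      θ 1 = e ∧ e * t = ∏ i ∈ Finset.range m, (q ^ (i + 1) - 1) ∧ t ∣ Nat.gcd (m + 1) (q - 1) := by
  obtain ⟨F, _, _, φ, C⟩ := exists_co R hm k hk
  rw [← hq, C.card i₀]
  exact exists_cusp_of_co C hk (by omega)

/-- **Cuspidal characters for a node with a simply joined neighbour.** -/
theorem cusp_node [Finite W] [Finite Y] (R : RGD cs h p T n X) (i j : I) (hij : M i j = 3) {q : ℕ}
    (hq : Nat.card (X (sr i)) = q) :
    ∃ (θ : ↥(H53.HC.MJ cs h X {i}) → ℂ) (e t : ℕ), H53.HC.Cusp cs h X {i} θ ∧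
      θ 1 = e ∧ e * t = q - 1 ∧ t ∣ Nat.gcd 2 (q - 1) := by
  obtain ⟨F, _, _, φ, C⟩ := exists_co_one R i j hij
  let k : Fin 1 ↪ I := ⟨fun _ => i, fun a b _ => Subsingleton.elim a b⟩
  have hk : Set.range k = {i} := by
    ext x
    constructor
    · rintro ⟨_, rfl⟩; rfl
    · rintro rfl; exact ⟨0, rfl⟩
  have h1 := exists_cusp_of_co (cs := cs) (h := h) (k := k) C (by
    intro a b
    rw [Subsingleton.elim a b, M.diagonal, CoxeterMatrix.diagonal]) le_rfl
  rw [hk, ← C.card 0] at h1
  change ∃ (θ : ↥(H53.HC.MJ cs h X {i}) → ℂ) (e t : ℕ), H53.HC.Cusp cs h X {i} θ ∧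
      θ 1 = e ∧ e * t = ∏ j ∈ Finset.range 1, (Nat.card (X (sr i)) ^ (j + 1) - 1) ∧
        t ∣ Nat.gcd (1 + 1) (Nat.card (X (sr i)) - 1) at h1
  rw [hq, Finset.prod_range_one, zero_add, pow_one] at h1
  exact h1

end Cfsg.Agent.H622.Levi
end
end

-- part: H928/Van/Tor
section
prune_inst 0x14010000
set_option linter.all false
open scoped Cfsg.Agent.FastGrp

/-!
# The action of the Levi subgroup on a component of type `A` (S4555, S4559, helper928)

* `mem_T_of_cj` : the elements of `L_J` normalising the root groups of `J` lie in `T`;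
* `dgl d` , `dsl d` : diagonal matrices; `Co.dsl_mem` : `φ (diag d) ∈ T`;
* `cjs D` : the automorphism `g ↦ D g D⁻¹` of `SL_n(F)`;
* `Co.lin_T` : `T` abelian: `t φ(g) t⁻¹ = φ (d g d⁻¹)`.
-/

set_option autoImplicit false
set_option linter.unusedSectionVars false

namespace Cfsg.Agent.H928.Van

open CoxeterSystem Cfsg.Agent.ChevalleyStructure.CoxeterGeom Cfsg.Agent.Tits.Roots Cfsg.Agent.Tits.Core
  Cfsg.Agent.Tits.Exchange Cfsg.Agent.Nodes.Reps Cfsg.Agent.Nodes.BNOf Cfsg.Agent.Nodes.StabComb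
  Cfsg.Agent.Nodes.Bruhat Cfsg.Agent.Nodes.OppDec Cfsg.Agent.Nodes.LeviDec
open Cfsg.Agent.LieRecognition.BNCox (cA)
open Cfsg.Agent.H622.Levi
open Matrix
open Cfsg.Agent.LieClassical.SLGen (transvection_smul smul_ext commutator_transvection transvection_induction)

universe u

section rgd

variable {I W Y : Type*} [Fintype I] [DecidableEq I] [Group W] [Group Y] {M : CoxeterMatrix I}
  {cs : CoxeterSystem M W} {A : I → I → ℤ} {h : IsCartan M A} {p : ℕ} {T : Subgroup Y} {n : I → Y}
  {X : (I → ℤ) → Subgroup Y} [Finite W] (R : RGD cs h p T n X)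

include R

theorem BJ_le_normalizer_UJ (J : Set I) : BJ cs h T X J ≤ Subgroup.normalizer (UJ cs h X J : Set Y) :=
  sup_le (R.T_le_normalizer fun _ hx => hx.1) Subgroup.le_normalizer

/-- the elements of `L_J` normalising `U_J` -/
theorem mem_BJ_of_cj {J : Set I} {g : Y} (hg : g ∈ LJ cs h T X J) (hU : cj g (UJ cs h X J) ≤ UJ cs h X J) :
    g ∈ BJ cs h T X J := by
  obtain ⟨w, hw, b₁, hb₁, k, hk, b₂, hb₂, e⟩ := (mem_LJ R).1 hg
  have hB : ∀ b ∈ BJ cs h T X J, cj b (UJ cs h X J) = UJ cs h X J := fun b hb =>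
    mem_normalizer_iff_cj.1 (BJ_le_normalizer_UJ R J hb)
  have hkU : cj k (UJ cs h X J) ≤ UJ cs h X J := by
    have h1 : k = b₁⁻¹ * (g * b₂⁻¹) := by rw [e]; group
    rw [h1, cj_mul, cj_mul, hB _ (inv_mem hb₂)]
    calc cj b₁⁻¹ (cj g (UJ cs h X J)) ≤ cj b₁⁻¹ (UJ cs h X J) := cj_mono _ hU
      _ = UJ cs h X J := hB _ (inv_mem hb₁)
  have hw1 : w = 1 := by
    by_contra hw1
    obtain ⟨i, hi⟩ := cs.exists_rightDescent_of_ne_one hw1
    have hneg : ¬ 0 ≤ rep cs h w (sr i) := by
      intro h0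
      have h1 := (lt_iff' cs h w i).2 h0
      have h2 : cs.length (w * cs.simple i) < cs.length w := hi
      omega
    by_cases hiJ : i ∈ J
    · have h1 : IsRoot cs h (rep cs h w (sr i)) := (isRoot_sr cs h i).act w
      have h0 : rep cs h w (sr i) ≤ 0 := (h1.pos_or_neg).resolve_left hneg
      have h2 : X (rep cs h w (sr i)) ≤ UJ cs h X J := by
        rw [← R.conj_rp hk (isRoot_sr cs h i)]
        exact le_trans (cj_mono _ (RGD.le_Sup (sr_mem_PosJ hiJ))) hkU
      obtain ⟨z, hz, hz1⟩ := (X (rep cs h w (sr i))).bot_or_exists_ne_one.resolve_left (X_ne_bot R h1)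
      have h3 : UJ cs h X J ≤ RGD.Sup X (RGD.Pos cs h) := RGD.Sup_mono fun _ hx => ⟨hx.1, hx.2.1⟩
      refine hz1 (eq_one_of_mem_U_of_mem_BN R (h3 (h2 hz)) ?_)
      exact X_le_BN h1 h0 hz
    · apply hneg
      exact (NotJ.act hw (sr_mem_NotJ hiJ)).2.1
  subst hw1
  rw [e]
  refine mul_mem (mul_mem hb₁ ?_) hb₂
  exact T_le_BJ hk.mem_of_one

/-- **The elements of `L_J` normalising the root groups of `J` lie in `T`.** -/
theorem mem_T_of_cj {J : Set I} {g : Y} (hg : g ∈ LJ cs h T X J) (hx : ∀ x ∈ RootsJ cs h J, cj g (X x) ≤ X x) :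
    g ∈ T := by
  have key : ∀ y ∈ LJ cs h T X J, (∀ x ∈ RootsJ cs h J, cj y (X x) ≤ X x) → y ∈ BJ cs h T X J := by
    intro y hy hyx
    refine mem_BJ_of_cj R hy ?_
    rintro _ ⟨z, hz, rfl⟩
    have h1 : UJ cs h X J ≤ (UJ cs h X J).comap (MulAut.conj y).toMonoidHom := RGD.Sup_le fun x hx z hz =>
      RGD.le_Sup (S := PosJ cs h J) hx (hyx x (PosJ_subset J hx) ⟨z, hz, rfl⟩)
    exact h1 hz
  obtain ⟨wj, hwj⟩ := exists_isLongest cs J
  obtain ⟨kJ, hkJ⟩ := exists_rp cs R.nsys wj
  have hkJL : kJ ∈ LJ cs h T X J := rp_mem_LJ R hwj.1 hkJ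
  have h1 : kJ⁻¹ * g * kJ ∈ BJ cs h T X J := by
    refine key _ (mul_mem (mul_mem (inv_mem hkJL) hg) hkJL) fun x hxJ => ?_
    have hw : rep cs h wj x ∈ RootsJ cs h J := RootsJ.act hwj.1 hxJ
    rw [cj_mul, cj_mul, R.conj_rp hkJ hxJ.1]
    refine le_trans (cj_mono _ (hx _ hw)) ?_
    rw [← R.conj_rp hkJ hxJ.1, cj_inv_cj]
  have h2 : cj kJ (BJ cs h T X J) ≤ BN cs h T X := by
    unfold BJ BN
    rw [cj_sup, cj_T R hkJ]
    refine sup_le_sup_left (cj_Sup_le R hkJ (fun x hx => hx.1) fun x hx => ?_) _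
    exact ⟨hx.1.act _, rep_longest_nonpos hwj hx⟩
  rw [← B_inf_BN R]
  refine ⟨?_, ?_⟩
  · have h3 := key g hg hx
    rw [← B_inf_LJ R J] at h3
    exact h3.1
  · have h3 := h2 ((conj_mem_cj (g := kJ)).2 h1)
    have h4 : kJ * (kJ⁻¹ * g * kJ) * kJ⁻¹ = g := by group
    rwa [h4] at h3

end rgd

section mat

variable {ι F : Type*} [Fintype ι] [DecidableEq ι] [Field F]

/-- the automorphism `g ↦ D g D⁻¹` of `SL_n(F)` -/
def cjs (D : GL ι F) : SpecialLinearGroup ι F →* SpecialLinearGroup ι F where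
  toFun g := ⟨(D : Matrix ι ι F) * g.1 * ((D⁻¹ : GL ι F) : Matrix ι ι F), by
    rw [Matrix.det_mul, Matrix.det_mul, g.2, mul_one, ← Matrix.det_mul, ← Units.val_mul, mul_inv_cancel, Units.val_one,
      Matrix.det_one]⟩
  map_one' := by
    apply Subtype.ext
    change (D : Matrix ι ι F) * 1 * ((D⁻¹ : GL ι F) : Matrix ι ι F) = 1
    rw [mul_one, ← Units.val_mul, mul_inv_cancel, Units.val_one]
  map_mul' g g' := by
    apply Subtype.ext
    change (D : Matrix ι ι F) * (g.1 * g'.1) * ((D⁻¹ : GL ι F) : Matrix ι ι F) =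
      ((D : Matrix ι ι F) * g.1 * ((D⁻¹ : GL ι F) : Matrix ι ι F)) *
        ((D : Matrix ι ι F) * g'.1 * ((D⁻¹ : GL ι F) : Matrix ι ι F))
    have h1 : ((D⁻¹ : GL ι F) : Matrix ι ι F) * (D : Matrix ι ι F) = 1 := by
      rw [← Units.val_mul, inv_mul_cancel, Units.val_one]
    simp only [mul_assoc]
    rw [← mul_assoc ((D⁻¹ : GL ι F) : Matrix ι ι F) (D : Matrix ι ι F), h1, one_mul]

theorem cjs_coe (D : GL ι F) (g : SpecialLinearGroup ι F) :
    (cjs D g).1 = (D : Matrix ι ι F) * g.1 * ((D⁻¹ : GL ι F) : Matrix ι ι F) := rfl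

theorem cjs_mul (D E : GL ι F) (g : SpecialLinearGroup ι F) : cjs (D * E) g = cjs D (cjs E g) := by
  apply Subtype.ext
  rw [cjs_coe, cjs_coe, cjs_coe, _root_.mul_inv_rev, Units.val_mul, Units.val_mul]
  simp only [mul_assoc]

theorem cjs_one (g : SpecialLinearGroup ι F) : cjs (1 : GL ι F) g = g := by
  apply Subtype.ext
  rw [cjs_coe, inv_one, Units.val_one, one_mul, mul_one]

theorem cjs_pow (D : GL ι F) (N : ℕ) (g : SpecialLinearGroup ι F) : cjs (D ^ (N + 1)) g = cjs (D ^ N) (cjs D g) := by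
  rw [pow_succ, cjs_mul]

theorem cjs_toGL (s g : SpecialLinearGroup ι F) : cjs (SpecialLinearGroup.toGL s) g = s * g * s⁻¹ := by
  apply Subtype.ext
  rw [cjs_coe, ← map_inv]
  rfl

/-- the diagonal matrix as an element of `GL_n` -/
def dgl (d : ι → Fˣ) : GL ι F where
  val := Matrix.diagonal fun i => (d i : F)
  inv := Matrix.diagonal fun i => ((d i)⁻¹ : Fˣ)
  val_inv := by
    rw [Matrix.diagonal_mul_diagonal, ← Matrix.diagonal_one]
    congr 1
    funext i
    simp
  inv_val := by
    rw [Matrix.diagonal_mul_diagonal, ← Matrix.diagonal_one]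
    congr 1
    funext i
    simp

theorem dgl_coe (d : ι → Fˣ) : (dgl d : Matrix ι ι F) = Matrix.diagonal fun i => (d i : F) := rfl

theorem dgl_inv_coe (d : ι → Fˣ) : ((dgl d)⁻¹ : GL ι F).1 = Matrix.diagonal fun i => ((d i)⁻¹ : Fˣ).1 := rfl

/-- the diagonal matrix of determinant one -/
def dsl (d : ι → Fˣ) (hd : ∏ i, d i = 1) : SpecialLinearGroup ι F :=
  ⟨Matrix.diagonal fun i => (d i : F), by
    rw [Matrix.det_diagonal]
    have := congrArg Units.val hd
    rwa [Units.coe_prod, Units.val_one] at this⟩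

theorem toGL_dsl (d : ι → Fˣ) (hd : ∏ i, d i = 1) : SpecialLinearGroup.toGL (dsl d hd) = dgl d := Units.ext rfl

theorem cjs_dgl (d : ι → Fˣ) {a b : ι} (hab : a ≠ b) (t : F) :
    cjs (dgl d) (SpecialLinearGroup.transvection hab t) =
      SpecialLinearGroup.transvection hab ((d a : F) * t * ((d b)⁻¹ : Fˣ)) := by
  apply Subtype.ext
  rw [cjs_coe, dgl_coe, dgl_inv_coe]
  change Matrix.diagonal _ * (1 + Matrix.single a b t) * Matrix.diagonal _ =
    1 + Matrix.single a b ((d a : F) * t * ((d b)⁻¹ : Fˣ))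
  ext i j
  rw [Matrix.mul_diagonal, Matrix.diagonal_mul, Matrix.add_apply, Matrix.add_apply, Matrix.single_apply,
    Matrix.single_apply, Matrix.one_apply]
  by_cases hij : i = j
  · subst hij
    have h1 : ¬ (a = i ∧ b = i) := fun h => hab (h.1.trans h.2.symm)
    rw [if_pos rfl, if_neg h1, if_neg h1, add_zero, mul_one]
    exact Units.mul_inv _
  · rw [if_neg hij, zero_add, zero_add]
    by_cases h1 : a = i ∧ b = j
    · rw [if_pos h1, if_pos h1, h1.1, h1.2]
    · rw [if_neg h1, if_neg h1, mul_zero, zero_mul]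

end mat

section co

variable {I W Y : Type*} [Fintype I] [DecidableEq I] [Group W] [Group Y] {M : CoxeterMatrix I}
  {cs : CoxeterSystem M W} {A : I → I → ℤ} {h : IsCartan M A} {p : ℕ} {T : Subgroup Y} {n : I → Y}
  {X : (I → ℤ) → Subgroup Y} {m : ℕ} {k : Fin m ↪ I} {F : Type} [Field F]
  {φ : SpecialLinearGroup (Fin (m + 1)) F →* Y} (C : Co X k F φ)

include C

theorem inj_of_co {a b : Fin (m + 1)} (hab : a ≠ b) {s t : F}
    (hst : φ (SpecialLinearGroup.transvection hab s) = φ (SpecialLinearGroup.transvection hab t)) : s = t := by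
  have h2 : (SpecialLinearGroup.transvection hab s)⁻¹ * SpecialLinearGroup.transvection hab t ∈ φ.ker := by
    rw [MonoidHom.mem_ker, map_mul, map_inv]
    exact inv_mul_eq_one.2 hst
  have h3 := C.ker h2
  have h4 : (SpecialLinearGroup.transvection hab s)⁻¹ * SpecialLinearGroup.transvection hab t =
      SpecialLinearGroup.transvection hab (t - s) := by
    rw [inv_mul_eq_iff_eq_mul]
    apply smul_ext
    intro v
    rw [mul_smul, transvection_smul, transvection_smul, transvection_smul, Pi.add_apply, Pi.smul_apply,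
      Pi.single_eq_of_ne hab.symm, smul_zero, add_zero, add_assoc, ← add_smul]
    congr 2
    ring
  rw [h4, Matrix.SpecialLinearGroup.mem_center_iff] at h3
  obtain ⟨r, -, hr⟩ := h3
  have h5 := congrFun (congrFun hr a) b
  rw [Matrix.scalar_apply, Matrix.diagonal_apply_ne _ hab] at h5
  change 0 = (1 + Matrix.single a b (t - s)) a b at h5
  rw [Matrix.add_apply, Matrix.one_apply_ne hab, zero_add, Matrix.single_apply_same] at h5
  exact (sub_eq_zero.1 h5.symm).symm

variable [Finite W] (R : RGD cs h p T n X) (hk : ∀ i j, M (k i) (k j) = cA m i j) (hm : 2 ≤ m)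

include R hk hm

/-- **The diagonal matrices are mapped to `T`.** -/
theorem dsl_mem (d : Fin (m + 1) → Fˣ) (hd : ∏ i, d i = 1) : φ (dsl d hd) ∈ T := by
  have hran : φ.range = H53.HC.MJ cs h X (Set.range k) := C.range hk (by omega)
  have h1 : φ (dsl d hd) ∈ LJ cs h T X (Set.range k) := by
    refine H53.HC.MJ_le_LJ _ ?_
    rw [← hran]
    exact ⟨_, rfl⟩
  refine mem_T_of_cj R h1 fun x hx => ?_
  obtain ⟨a, b, hab, rfl⟩ := (mem_rootsJ (cs := cs) (h := h) hk).1 hx
  rintro _ ⟨z, hz, rfl⟩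
  have hz' : z ∈ (X (cr k a b) : Set Y) := hz
  rw [C.root a b hab] at hz'
  obtain ⟨t, rfl⟩ := hz'
  change φ (dsl d hd) * φ (SpecialLinearGroup.transvection hab t) * (φ (dsl d hd))⁻¹ ∈ X (cr k a b)
  rw [← map_inv, ← map_mul, ← map_mul, ← cjs_toGL, toGL_dsl, cjs_dgl]
  exact C.transvection_mem hab _

/-- **The torus acts by diagonal matrices.** -/
theorem lin_T (hT : ∀ a ∈ T, ∀ b ∈ T, a * b = b * a) {t : Y} (ht : t ∈ T) :
    ∃ d : Fin (m + 1) → Fˣ, ∀ g, t * φ g * t⁻¹ = φ (cjs (dgl d) g) := by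
  classical
  -- the action on the root groups
  have hact : ∀ a b (hab : a ≠ b) (u : F), ∃ v : F,
      t * φ (SpecialLinearGroup.transvection hab u) * t⁻¹ = φ (SpecialLinearGroup.transvection hab v) := by
    intro a b hab u
    have hr : IsRoot cs h (cr k a b) := ((mem_rootsJ (cs := cs) (h := h) hk).2 ⟨a, b, hab, rfl⟩).1
    have h1 : t * φ (SpecialLinearGroup.transvection hab u) * t⁻¹ ∈ X (cr k a b) := by
      rw [← R.tor _ hr t ht]
      exact conj_mem_cj.2 (C.transvection_mem hab u)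
    have h2 : t * φ (SpecialLinearGroup.transvection hab u) * t⁻¹ ∈ (X (cr k a b) : Set Y) := h1
    rw [C.root a b hab] at h2
    obtain ⟨v, hv⟩ := h2
    exact ⟨v, hv.symm⟩
  choose τ hτ using hact
  have hτ0 : ∀ a b (hab : a ≠ b), τ a b hab 1 ≠ 0 := by
    intro a b hab h0
    have h1 := hτ a b hab 1
    rw [h0] at h1
    have h2 : SpecialLinearGroup.transvection hab (0 : F) = 1 := by
      apply smul_ext
      intro v
      rw [transvection_smul, zero_mul, zero_smul, add_zero, one_smul]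
    rw [h2, map_one] at h1
    have h3 : φ (SpecialLinearGroup.transvection hab (1 : F)) = φ (SpecialLinearGroup.transvection hab (0 : F)) := by
      rw [h2, map_one]
      have : φ (SpecialLinearGroup.transvection hab (1 : F)) =
          t⁻¹ * (t * φ (SpecialLinearGroup.transvection hab 1) * t⁻¹) * t := by group
      rw [this, h1]
      group
    exact one_ne_zero (inj_of_co C hab h3)
  -- homogeneity
  have hthird : ∀ a b : Fin (m + 1), ∃ c, c ≠ a ∧ c ≠ b := by
    intro a b
    have h1 : ({a, b} : Finset (Fin (m + 1))).card < Fintype.card (Fin (m + 1)) := by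
      rw [Fintype.card_fin]
      exact lt_of_le_of_lt Finset.card_le_two (by omega)
    obtain ⟨c, hc⟩ := Finset.exists_mem_notMem_of_card_lt_card (s := {a, b}) (t := Finset.univ)
      (by rw [Finset.card_univ]; exact h1)
    refine ⟨c, ?_, ?_⟩ <;> rintro rfl <;> exact hc.2 (by simp)
  have hlin : ∀ a b (hab : a ≠ b) (u : F), τ a b hab u = u * τ a b hab 1 := by
    intro a b hab u
    by_cases hu : u = 0
    · subst hu
      rw [zero_mul]
      have h2 : SpecialLinearGroup.transvection hab (0 : F) = 1 := by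
        apply smul_ext
        intro v
        rw [transvection_smul, zero_mul, zero_smul, add_zero, one_smul]
      have h1 := hτ a b hab 0
      rw [h2, map_one, mul_one, mul_inv_cancel, ← map_one φ, ← h2] at h1
      exact (inj_of_co C hab h1).symm
    · obtain ⟨c, hca, hcb⟩ := hthird a b
      let d : Fin (m + 1) → Fˣ := fun i => if i = a then Units.mk0 u hu else if i = c then (Units.mk0 u hu)⁻¹ else 1
      have hd : ∏ i, d i = 1 := by
        rw [← Finset.prod_subset (Finset.subset_univ {a, c})]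
        · rw [Finset.prod_pair hca.symm]
          change (if a = a then _ else _) * (if c = a then _ else if c = c then _ else _) = (1 : Fˣ)
          rw [if_pos rfl, if_neg hca, if_pos rfl, mul_inv_cancel]
        · intro i _ hi
          simp only [Finset.mem_insert, Finset.mem_singleton, not_or] at hi
          change (if i = a then _ else if i = c then _ else _) = (1 : Fˣ)
          rw [if_neg hi.1, if_neg hi.2]
      have hda : d a = Units.mk0 u hu := if_pos rfl
      have hdb : d b = 1 := by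
        change (if b = a then _ else if b = c then _ else _) = (1 : Fˣ)
        rw [if_neg hab.symm, if_neg hcb.symm]
      have hδ : ∀ s : F, φ (dsl d hd) * φ (SpecialLinearGroup.transvection hab s) * (φ (dsl d hd))⁻¹ =
          φ (SpecialLinearGroup.transvection hab (u * s)) := by
        intro s
        rw [← map_inv, ← map_mul, ← map_mul, ← cjs_toGL, toGL_dsl, cjs_dgl, hda, hdb]
        congr 2
        simp
      have hcm := hT t ht _ (dsl_mem C R hk hm d hd)
      have h3 : t * φ (SpecialLinearGroup.transvection hab u) * t⁻¹ =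
          φ (SpecialLinearGroup.transvection hab (u * τ a b hab 1)) := by
        have h4 := hδ 1
        rw [mul_one] at h4
        rw [← hδ, ← hτ, ← h4]
        have e1 : t * (φ (dsl d hd) * φ (SpecialLinearGroup.transvection hab 1) * (φ (dsl d hd))⁻¹) * t⁻¹ =
            (t * φ (dsl d hd)) * φ (SpecialLinearGroup.transvection hab 1) * (t * φ (dsl d hd))⁻¹ := by group
        rw [e1, hcm]
        group
      rw [hτ] at h3
      exact inj_of_co C hab h3
  -- multiplicativity
  have hmul : ∀ a b c (hab : a ≠ b) (hbc : b ≠ c) (hac : a ≠ c), τ a c hac 1 = τ a b hab 1 * τ b c hbc 1 := by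
    intro a b c hab hbc hac
    apply inj_of_co C hac
    rw [← hτ, ← commutator_transvection hac hab hbc (τ a b hab 1) (τ b c hbc 1), map_commutatorElement, ← hτ, ← hτ]
    have h1 := commutator_transvection hac hab hbc (1 : F) 1
    rw [one_mul] at h1
    rw [← h1, map_commutatorElement, commutatorElement_def, commutatorElement_def]
    group
  have hswap : ∀ a b (hab : a ≠ b), τ a b hab 1 * τ b a hab.symm 1 = 1 := by
    intro a b hab
    obtain ⟨c, hca, hcb⟩ := hthird a b
    have h1 := hmul c a b hca hab hcb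
    have h2 := hmul c b a hcb hab.symm hca
    rw [h1] at h2
    have h3 := hτ0 c a hca
    have h4 : τ c a hca 1 * (τ a b hab 1 * τ b a hab.symm 1) = τ c a hca 1 * 1 := by
      rw [mul_one, ← mul_assoc]
      exact h2.symm
    exact mul_left_cancel₀ h3 h4
  let d : Fin (m + 1) → Fˣ := fun i => if hi : i = 0 then 1 else Units.mk0 (τ i 0 hi 1) (hτ0 i 0 hi)
  have hd : ∀ a b (hab : a ≠ b), (d a : F) * ((d b)⁻¹ : Fˣ) = τ a b hab 1 := by
    intro a b hab
    by_cases ha : a = 0
    · subst ha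
      have hb : b ≠ 0 := hab.symm
      have e1 : d 0 = 1 := dif_pos rfl
      have e2 : d b = Units.mk0 (τ b 0 hb 1) (hτ0 b 0 hb) := dif_neg hb
      rw [e1, e2, Units.val_one, one_mul, Units.val_inv_eq_inv_val, Units.val_mk0]
      exact (eq_inv_of_mul_eq_one_left (hswap 0 b hab)).symm
    · have e1 : d a = Units.mk0 (τ a 0 ha 1) (hτ0 a 0 ha) := dif_neg ha
      by_cases hb : b = 0
      · subst hb
        have e2 : d 0 = 1 := dif_pos rfl
        rw [e1, e2, inv_one, Units.val_one, mul_one, Units.val_mk0]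
      · have e2 : d b = Units.mk0 (τ b 0 hb 1) (hτ0 b 0 hb) := dif_neg hb
        rw [e1, e2, Units.val_inv_eq_inv_val, Units.val_mk0, Units.val_mk0, hmul a b 0 hab hb ha, mul_assoc,
          mul_inv_cancel₀ (hτ0 b 0 hb), mul_one]
  refine ⟨d, fun g => ?_⟩
  have : Nontrivial (Fin (m + 1)) := Fin.nontrivial_iff_two_le.2 (by omega)
  refine transvection_induction (fun g => t * φ g * t⁻¹ = φ (cjs (dgl d) g)) ?_ ?_ g
  · intro a b hab u
    rw [hτ, hlin, cjs_dgl]
    congr 2
    rw [← hd a b hab]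
    ring
  · intro g g' h1 h2
    rw [map_mul, map_mul, map_mul, ← h1, ← h2]
    group

end co

end Cfsg.Agent.H928.Van

private theorem dce_652200c72d29 : _root_.True := by
  try have : _root_.True := by simp only [_root_.Cfsg.Agent.H928.Van.dsl.congr_simp]
  exact _root_.True.intro
end
end
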