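import Cfsg.Agent.H53.HC.Asm
import Mathlib
import Cfsg.Agent.H622.Levi.Semi
import Cfsg.Agent.H53.HC.Flag_m3
import Cfsg.Agent.H928.Van.Tor
import Cfsg.Agent.H53.HC.Exc
import Cfsg.Agent.FastGrp
import Cfsg.Agent.Prune
set_option linter.all false

section
prune_inst 0x7f00000000000000000000000000000000000000000000000000000000000000000000000000000000000000000000000000000000000000000000000000000000000000000000000000000000000000003fffffffffffffffffffffffffffbeffbdfbfeffff

-- part: H928/Van/Eng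
section
set_option linter.all false
open scoped Cfsg.Agent.FastGrp

/-!
# The induced characters of a group with a root group datum, with the inducing character (S4555, S4559, helper928)

* `Ind R J ψ ψ'` : `ψ` an irreducible character of `L_J` without fixed vectors of the radicals, `ψ'` its inflation to `P_J`,
  `ψ' ^ Y` irreducible;
* `exists_ind` : from a cuspidal character of `M_J` not fixed by the elements permuting the simple roots of `J`;
* `Ind.value` : `ψ' ^ Y` vanishes at `x` if `ψ` vanishes at the `L_J`-parts of the conjugates of `x` in `P_J`;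
* `exists_ind_one` : one component of type `A_2`; `exists_ind_none` : no element permutes the simple roots of `J`.
-/

set_option autoImplicit false
set_option linter.unusedSectionVars false

open scoped ComplexConjugate Pointwise

namespace Cfsg.Agent.H928.Van

open Cfsg Cfsg.Agent.Characters CoxeterSystem Cfsg.Agent.ChevalleyStructure.CoxeterGeom Cfsg.Agent.Tits.Roots
  Cfsg.Agent.Tits.Core Cfsg.Agent.Tits.Exchange Cfsg.Agent.Nodes.Reps Cfsg.Agent.Nodes.BNOf Cfsg.Agent.Nodes.StabComb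
  Cfsg.Agent.Nodes.Bruhat Cfsg.Agent.Nodes.OppDec Cfsg.Agent.Nodes.LeviDec Cfsg.Agent.H53.HC
  Cfsg.Agent.OddOrderCharacters.IndRes

universe u

variable {I : Type*} {W : Type*} {Y : Type u} [Fintype I] [DecidableEq I] [Group W] [Group Y] {M : CoxeterMatrix I}
  {cs : CoxeterSystem M W} {A : I → I → ℤ} {h : IsCartan M A} {p : ℕ} {T : Subgroup Y} {n : I → Y}
  {X : (I → ℤ) → Subgroup Y}

/-- an irreducible character induced from `P_J`, together with the inducing character -/
structure Ind [Fintype Y] (cs : CoxeterSystem M W) (h : IsCartan M A) (T : Subgroup Y) (X : (I → ℤ) → Subgroup Y) (J : Set I)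
    (ψ : ↥(LJ cs h T X J) → ℂ) (ψ' : ↥(PJ cs h T X J) → ℂ) : Prop where
  irr : IsIrrCharacter _ ψ
  eq : ∀ (l : Y) (hl : l ∈ LJ cs h T X J) (v : Y) (_ : v ∈ VJ cs h X J) (hlv : l * v ∈ PJ cs h T X J),
    ψ' ⟨l * v, hlv⟩ = ψ ⟨l, hl⟩
  van : ∀ i ∈ J, ∀ [Fintype (rad cs h X J i)], ∑ u : rad cs h X J i, ψ ⟨u, rad_le_LJ J i u.2⟩ = 0
  ind : IsIrrCharacter Y (indFun (PJ cs h T X J) ψ')

theorem Ind.value [Fintype Y] {J : Set I} {ψ : ↥(LJ cs h T X J) → ℂ} {ψ' : ↥(PJ cs h T X J) → ℂ}
    (hI : Ind cs h T X J ψ ψ') (hdec : ∀ y ∈ PJ cs h T X J, ∃ l ∈ LJ cs h T X J, ∃ v ∈ VJ cs h X J, y = l * v) {x : Y}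
    (hx : ∀ (g l v : Y) (hl : l ∈ LJ cs h T X J), v ∈ VJ cs h X J → g⁻¹ * x * g = l * v → ψ ⟨l, hl⟩ = 0) :
    indFun (PJ cs h T X J) ψ' x = 0 := by
  change (Nat.card (PJ cs h T X J) : ℂ)⁻¹ * ∑ g : Y, extendByZero (PJ cs h T X J) ψ' (g⁻¹ * x * g) = 0
  rw [Finset.sum_eq_zero, mul_zero]
  intro g _
  unfold extendByZero
  by_cases hg : g⁻¹ * x * g ∈ PJ cs h T X J
  · obtain ⟨l, hl, v, hv, e⟩ := hdec _ hg
    have h1 : Function.extend Subtype.val ψ' (fun _ => (0 : ℂ)) ((⟨g⁻¹ * x * g, hg⟩ : PJ cs h T X J) : Y) =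
        ψ' ⟨g⁻¹ * x * g, hg⟩ := Subtype.val_injective.extend_apply _ _ _
    refine h1.trans ?_
    have h2 : l * v ∈ PJ cs h T X J := e ▸ hg
    have h3 : (⟨g⁻¹ * x * g, hg⟩ : PJ cs h T X J) = ⟨l * v, h2⟩ := Subtype.ext e
    rw [h3, hI.eq l hl v hv h2]
    exact hx g l v hl hv e
  · apply Function.extend_apply'
    rintro ⟨y, hy⟩
    exact hg (hy ▸ y.2)

variable (R : RGD cs h p T n X)

include R

theorem dec [Finite W] (J : Set I) : ∀ y ∈ PJ cs h T X J, ∃ l ∈ LJ cs h T X J, ∃ v ∈ VJ cs h X J, y = l * v := by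
  intro y hy
  exact (mem_PJ R).1 hy

/-- **Irreducible characters from the cuspidal characters of `M_J`**, with the inducing character. -/
theorem exists_ind [Finite W] [Fintype Y] (hG : GG cs h T X = ⊤) (J : Set I)
    {θ : ↥(MJ cs h X J) → ℂ} (hθ : IsIrrCharacter _ θ)
    (hc : ∀ i ∈ J, ∀ [Fintype (rad cs h X J i)], ∑ u : rad cs h X J i, θ ⟨u, rad_le_MJ J i u.2⟩ = 0)
    (hs : ∀ w g (hg : Rp cs R.nsys w g), w ∉ WJ cs J → ∀ hw : Perm cs h J w,
      ∃ (m : Y) (hm : m ∈ MJ cs h X J), θ ⟨g⁻¹ * m * g, conj_mem_MJ R hg hw hm⟩ ≠ θ ⟨m, hm⟩) :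
    ∃ (ψ : ↥(LJ cs h T X J) → ℂ) (ψ' : ↥(PJ cs h T X J) → ℂ), Ind cs h T X J ψ ψ' := by
  classical
  obtain ⟨ψ, hψ, ⟨k, hk, hk1⟩, c, s, hres, hsφ⟩ := exists_over (MJ_le_LJ (T := T) J) (LJ_le_normalizer_MJ R J) hθ
  obtain ⟨π, hπL, hπV⟩ := exists_projL R J
  have hsur : Function.Surjective π := fun l => ⟨⟨(l : Y), LJ_le_PJ l.2⟩, hπL l l.2⟩
  obtain ⟨ψ', hψ'⟩ : ∃ ψ' : ↥(PJ cs h T X J) → ℂ, ψ' = ψ ∘ π := ⟨_, rfl⟩
  have hψirr : IsIrrCharacter _ ψ' := by rw [hψ']; exact Core.isIrr_comp π hsur hψ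
  have hψL : ∀ (l : Y) (hl : l ∈ LJ cs h T X J), ψ' ⟨l, LJ_le_PJ hl⟩ = ψ ⟨l, hl⟩ := by
    intro l hl
    rw [hψ', Function.comp_apply, hπL]
  have hψV : ∀ (v : Y) (hv : v ∈ VJ cs h X J), ψ' ⟨v, VJ_le_PJ hv⟩ = ψ' 1 := by
    intro v hv
    rw [hψ', Function.comp_apply, hπV v hv, Function.comp_apply, map_one]
  have hres' : ∀ (m : Y) (hm : m ∈ MJ cs h X J), ψ' ⟨m, LJ_le_PJ (MJ_le_LJ J hm)⟩ = c * ∑ φ ∈ s, φ ⟨m, hm⟩ := by
    intro m hm
    rw [hψL]
    exact hres ⟨m, hm⟩
  -- the conjugates are conjugates under the torus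
  have hsT : ∀ φ ∈ s, ∃ t, ∃ ht : t ∈ T, φ = θ ∘ conjME (MJ cs h X J) (T_le_normalizer_MJ R J ht) := by
    intro φ hφ
    obtain ⟨g, hg, hgφ⟩ := hsφ φ hφ
    obtain ⟨m, hm, t, ht, rfl⟩ := (mem_LJ_iff_mul' R J).1 hg
    refine ⟨t, ht, ?_⟩
    funext x
    obtain ⟨hx', e⟩ := hgφ x x.2
    rw [e, Function.comp_apply]
    have h1 := Core.isIrr_isClassFunction hθ (conjME (MJ cs h X J) (T_le_normalizer_MJ R J ht) x) ⟨m, hm⟩
    rw [← h1]
    congr 1
    apply Subtype.ext
    simp only [conjME_coe, Subgroup.coe_mul, InvMemClass.coe_inv]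
    group
  have hvan : ∀ i ∈ J, ∀ [Fintype (rad cs h X J i)], ∑ u : rad cs h X J i, ψ' ⟨u, rad_le_PJ J i u.2⟩ = 0 := by
    intro i hi hf
    have h1 : ∀ u : rad cs h X J i, ψ' ⟨u, rad_le_PJ J i u.2⟩ = c * ∑ φ ∈ s, φ ⟨u, rad_le_MJ J i u.2⟩ :=
      fun u => hres' u (rad_le_MJ J i u.2)
    rw [Finset.sum_congr rfl fun u _ => h1 u, ← Finset.mul_sum, Finset.sum_comm]
    rw [Finset.sum_eq_zero, mul_zero]
    intro φ hφ
    obtain ⟨t, ht, rfl⟩ := hsT φ hφ
    rw [← hc i hi]
    exact Fintype.sum_equiv (conjME (rad cs h X J i) (T_le_normalizer_rad R J i ht)).toEquiv _ _ fun u => rfl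
  refine ⟨ψ, ψ', hψ, ?_, ?_, ?_⟩
  · intro l hl v hv hlv
    have h1 : (⟨l * v, hlv⟩ : PJ cs h T X J) = ⟨l, LJ_le_PJ hl⟩ * ⟨v, VJ_le_PJ hv⟩ := rfl
    rw [hψ', Function.comp_apply, h1, map_mul, hπV v hv, mul_one, hπL]
  · intro i hi hf
    rw [← hvan i hi]
    exact Finset.sum_congr rfl fun u _ => (hψL _ (rad_le_LJ J i u.2)).symm
  · refine isIrr_indFun_rgd R hG J hψirr hψV hvan ?_
    · intro w g hg hw hp
      have hgn := inv_mem (rp_mem_normalizer_MJ R hg hp)
      refine ⟨MJ cs h X J, le_trans (MJ_le_LJ J) LJ_le_PJ,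
        fun l hl => LJ_le_PJ (MJ_le_LJ J (conj_mem_MJ R hg hp hl)), ?_⟩
      intro hf
      have h1 : ∀ l : MJ cs h X J, ψ' ⟨l, LJ_le_PJ (MJ_le_LJ J l.2)⟩ *
          conj (ψ' ⟨g⁻¹ * l * g, LJ_le_PJ (MJ_le_LJ J (conj_mem_MJ R hg hp l.2))⟩) =
          ∑ φ ∈ s, ∑ φ' ∈ s, (c * conj c) * (φ l * conj ((φ' ∘ conjME (MJ cs h X J) hgn) l)) := by
        intro l
        have e2 : (⟨g⁻¹ * l * g, conj_mem_MJ R hg hp l.2⟩ : MJ cs h X J) = conjME (MJ cs h X J) hgn l := by
          apply Subtype.ext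
          rw [conjME_coe, inv_inv]
        rw [hres' l l.2, hres' _ (conj_mem_MJ R hg hp l.2), e2, map_mul, map_sum]
        simp only [← Finset.mul_sum, Function.comp_apply]
        rw [← Finset.sum_mul]
        ring
      rw [Finset.sum_congr rfl fun l _ => h1 l, Finset.sum_comm]
      refine Finset.sum_eq_zero fun φ hφ => ?_
      rw [Finset.sum_comm]
      refine Finset.sum_eq_zero fun φ' hφ' => ?_
      rw [← Finset.mul_sum]
      obtain ⟨t, ht, rfl⟩ := hsT φ hφ
      obtain ⟨t', ht', rfl⟩ := hsT φ' hφ'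
      have hne : θ ∘ conjME (MJ cs h X J) (T_le_normalizer_MJ R J ht) ≠
          (θ ∘ conjME (MJ cs h X J) (T_le_normalizer_MJ R J ht')) ∘ conjME (MJ cs h X J) hgn := by
        intro he
        have hg' : Rp cs R.nsys w (t * g * t'⁻¹) := by
          have h2 := ((rp_of_mem (cs := cs) (hN := R.nsys) ht).mul hg).mul
            (rp_of_mem (cs := cs) (hN := R.nsys) (inv_mem ht'))
          rwa [one_mul, mul_one] at h2
        obtain ⟨m, hm, hne⟩ := hs w _ hg' hw hp
        apply hne
        have h3 := congrFun he (conjME (MJ cs h X J) (inv_mem (T_le_normalizer_MJ R J ht)) ⟨m, hm⟩)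
        simp only [Function.comp_apply] at h3
        refine Eq.trans ?_ (h3.symm.trans ?_)
        · congr 1
          apply Subtype.ext
          simp only [conjME_coe]
          group
        · congr 1
          apply Subtype.ext
          simp only [conjME_coe]
          group
      have hi1 : IsIrrCharacter _ (θ ∘ conjME (MJ cs h X J) (T_le_normalizer_MJ R J ht)) :=
        Core.isIrr_comp (conjME _ (T_le_normalizer_MJ R J ht)).toMonoidHom (MulEquiv.surjective _) hθ
      have hi2 : IsIrrCharacter _ (θ ∘ conjME (MJ cs h X J) (T_le_normalizer_MJ R J ht')) :=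
        Core.isIrr_comp (conjME _ (T_le_normalizer_MJ R J ht')).toMonoidHom (MulEquiv.surjective _) hθ
      have hi3 : IsIrrCharacter _ ((θ ∘ conjME (MJ cs h X J) (T_le_normalizer_MJ R J ht')) ∘
          conjME (MJ cs h X J) hgn) :=
        Core.isIrr_comp (conjME _ hgn).toMonoidHom (MulEquiv.surjective _) hi2
      have h4 := Core.classInner_irr_ne hi1 hi3 hne
      rw [Core.classInner_def, mul_eq_zero] at h4
      rcases h4 with h4 | h4
      · exact absurd (inv_eq_zero.1 h4) Core.card_ne_zero_complex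
      · rw [mul_eq_zero]
        exact Or.inr h4

/-- **No element outside `W_J` permutes the simple roots of `J`.** -/
theorem exists_ind_none [Finite W] [Fintype Y] (hG : GG cs h T X = ⊤) {J : Set I} {θ : ↥(MJ cs h X J) → ℂ}
    (hθ : Cusp cs h X J θ) (hno : ∀ w, Perm cs h J w → w ∈ WJ cs J) :
    ∃ (ψ : ↥(LJ cs h T X J) → ℂ) (ψ' : ↥(PJ cs h T X J) → ℂ), Ind cs h T X J ψ ψ' :=
  exists_ind R hG J hθ.irr hθ.van fun w _ _ hw hp => absurd (hno w hp) hw

/-- **One component of type `A_2`.** -/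
theorem exists_ind_one [Finite W] [Fintype Y] (hG : GG cs h T X = ⊤) {J K K' : Set I} {j : I}
    (hJ : ∀ i, i ∈ J ↔ i ≠ j) (hJK : J = K ∪ K') (ho : Orth A K K') {k₀ k₁ : I} (hK : K = {k₀, k₁})
    (hk : IsoPair A J k₀ k₁) (hk1 : A k₁ j = 0) (h3 : ¬ (3 : ℤ) ∣ A k₀ j)
    (hun : ∀ a b, IsoPair A J a b → (a = k₀ ∧ b = k₁) ∨ (a = k₁ ∧ b = k₀))
    {θ : ↥(MJ cs h X K) → ℂ} (hθ : Cusp cs h X K θ) (hns : NonSwap cs h X K k₀ k₁ θ)
    {θ' : ↥(MJ cs h X K') → ℂ} (hθ' : Cusp cs h X K' θ') :
    ∃ (ψ : ↥(LJ cs h T X J) → ℂ) (ψ' : ↥(PJ cs h T X J) → ℂ), Ind cs h T X J ψ ψ' := by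
  subst hJK
  obtain ⟨ψ, hψ, hval⟩ := hθ.exists_prod R ho hθ'
  refine exists_ind R hG (K ∪ K') hψ.irr hψ.van ?_
  intro w g hg hw hp
  obtain ⟨h0, h1⟩ := swap_of_iso hJ hk hk1 h3 hun hp hw
  exact not_stable_swap R rfl ho hK hns hθ'.irr hval hg hp h0 h1

end Cfsg.Agent.H928.Van
end

-- part: H622/Van/Chain
section
set_option linter.all false
open scoped Cfsg.Agent.FastGrp

-- part: H622/Van/Semi
section
/-!
Automorphisms of images of `SL_n(F)`, `3 ≤ n`, which reverse the root groups are induced by semilinear maps and the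
inverse transpose.

* `exists_ringEquiv`, `swapC`, `swapHom_tv`, `exists_swap`.
-/

set_option autoImplicit false
set_option linter.unusedSectionVars false

namespace Cfsg.Agent.H622.Van

open Matrix
open Cfsg.Agent.TitsThree.KSideA (tv tv_of_ne tv_add tv_zero tv_neg tv_comm)
open Cfsg.Agent.H622.Levi (swapHom coe_swapHom)
open scoped commutatorElement

theorem exists_third {n : ℕ} (hn : 3 ≤ n) (a b : Fin n) : ∃ c : Fin n, c ≠ a ∧ c ≠ b := by
  have h1 : ({a, b} : Finset (Fin n)).card < (Finset.univ : Finset (Fin n)).card := by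
    rw [Finset.card_univ, Fintype.card_fin]
    exact lt_of_le_of_lt Finset.card_le_two (by omega)
  obtain ⟨c, -, hc⟩ := Finset.exists_mem_notMem_of_card_lt_card h1
  simp only [Finset.mem_insert, Finset.mem_singleton, not_or] at hc
  exact ⟨c, hc⟩

section ring

variable {F : Type*} [Field F] [Finite F] {n : ℕ}

theorem exists_ringEquiv (hn : 3 ≤ n) {f : Fin n → Fin n → F → F}
    (hadd : ∀ a b, a ≠ b → ∀ s t, f a b (s + t) = f a b s + f a b t)
    (hmul : ∀ a b c, a ≠ b → b ≠ c → a ≠ c → ∀ s t, f a c (s * t) = f a b s * f b c t)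
    (hne : ∀ a b, a ≠ b → f a b 1 ≠ 0) :
    ∃ (τ : F ≃+* F) (d : Fin n → F), (∀ a, d a ≠ 0) ∧ ∀ a b, a ≠ b → ∀ t, f a b t = d a * τ t * (d b)⁻¹ := by
  obtain ⟨z, o, hzo⟩ : ∃ z o : Fin n, z ≠ o := ⟨⟨0, by omega⟩, ⟨1, by omega⟩, by
    intro h
    have := congrArg Fin.val h
    simp at this⟩
  have hrow : ∀ a b c, a ≠ b → a ≠ c → ∀ s, f a b s * (f a b 1)⁻¹ = f a c s * (f a c 1)⁻¹ := by
    intro a b c hab hac s
    by_cases hbc : b = c
    · rw [hbc]
    · have h1 := hmul a b c hab hbc hac s 1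
      have h2 := hmul a b c hab hbc hac 1 1
      rw [mul_one] at h1 h2
      have h3 := hne b c hbc
      have h4 := hne a b hab
      rw [h1, h2]
      field_simp
  have hcol : ∀ a b c, a ≠ c → b ≠ c → ∀ s, f a c s * (f a c 1)⁻¹ = f b c s * (f b c 1)⁻¹ := by
    intro a b c hac hbc s
    by_cases hab : a = b
    · rw [hab]
    · have h1 := hmul a b c hab hbc hac 1 s
      have h2 := hmul a b c hab hbc hac 1 1
      rw [one_mul] at h1 h2
      have h3 := hne b c hbc
      have h4 := hne a b hab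
      rw [h1, h2]
      field_simp
  have hall : ∀ a b, a ≠ b → ∀ s, f a b s * (f a b 1)⁻¹ = f z o s * (f z o 1)⁻¹ := by
    intro a b hab s
    obtain ⟨c, hca, hcz⟩ := exists_third hn a z
    rw [hrow a b c hab hca.symm, hcol a z c hca.symm hcz.symm, hrow z c o hcz.symm hzo]
  obtain ⟨w, hwz, hwo⟩ := exists_third hn z o
  let τ₀ : F →+* F :=
    { toFun := fun s => f z o s * (f z o 1)⁻¹
      map_one' := mul_inv_cancel₀ (hne z o hzo)
      map_zero' := by
        have h1 := hadd z o hzo 0 0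
        rw [add_zero] at h1
        have h2 : f z o 0 = 0 := by
          have : f z o 0 + 0 = f z o 0 + f z o 0 := by rw [add_zero]; exact h1
          exact (add_left_cancel this).symm
        rw [h2, zero_mul]
      map_add' := fun s t => by rw [hadd z o hzo, add_mul]
      map_mul' := fun s t => by
        have h1 := hmul z w o hwz.symm hwo hzo s t
        have h2 := hmul z w o hwz.symm hwo hzo 1 1
        rw [mul_one] at h2
        change f z o (s * t) * (f z o 1)⁻¹ = (f z o s * (f z o 1)⁻¹) * (f z o t * (f z o 1)⁻¹)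
        rw [← hall z w hwz.symm s, ← hall w o hwo t, h1, h2, mul_inv]
        ring }
  have hbij : Function.Bijective τ₀ := Finite.injective_iff_bijective.1 τ₀.injective
  let τ : F ≃+* F := RingEquiv.ofBijective τ₀ hbij
  have hτ : ∀ a b, a ≠ b → ∀ s, f a b s = f a b 1 * τ s := fun a b hab s => by
    have h1 : τ s = f a b s * (f a b 1)⁻¹ := (hall a b hab s).symm
    have h2 := hne a b hab
    rw [h1]
    field_simp
  refine ⟨τ, fun a => if a = z then 1 else f a z 1, ?_, ?_⟩
  · intro a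
    dsimp only
    split_ifs with h
    · exact one_ne_zero
    · exact hne a z h
  · intro a b hab t
    dsimp only
    rw [hτ a b hab t]
    by_cases ha : a = z
    · subst ha
      rw [if_pos rfl, if_neg (Ne.symm hab)]
      obtain ⟨c, hca, hcb⟩ := exists_third hn a b
      have h1 := hmul a b c hab hcb.symm hca.symm 1 1
      have h2 := hmul b a c (Ne.symm hab) hca.symm hcb.symm 1 1
      rw [mul_one] at h1 h2
      have h3 := hne a c hca.symm
      have h4 : f a b 1 * f b a 1 = 1 := by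
        apply mul_right_cancel₀ h3
        rw [mul_assoc, ← h2, ← h1, one_mul]
      have h5 := hne b a (Ne.symm hab)
      rw [eq_mul_inv_iff_mul_eq₀ h5, one_mul]
      calc f a b 1 * τ t * f b a 1 = (f a b 1 * f b a 1) * τ t := by ring
        _ = τ t := by rw [h4, one_mul]
    · rw [if_neg ha]
      by_cases hb : b = z
      · subst hb
        rw [if_pos rfl, inv_one, mul_one]
      · rw [if_neg hb]
        have h1 := hmul a b z hab hb ha 1 1
        rw [mul_one] at h1
        have h5 := hne b z hb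
        rw [h1]
        field_simp

end ring

section gen

variable {F : Type*} [Field F] {n : ℕ}

/-- the monomial matrix of the swap -/
def swapC (d : Fin n → F) (hd : ∀ a, d a ≠ 0) : GL (Fin n) F where
  val := Matrix.of fun i j => if j = Fin.rev i then (d j)⁻¹ else 0
  inv := Matrix.of fun i j => if i = Fin.rev j then d i else 0
  val_inv := by
    ext i k
    rw [Matrix.mul_apply, Finset.sum_eq_single (Fin.rev i)]
    · simp only [Matrix.of_apply, if_true]
      by_cases hik : i = k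
      · subst hik
        rw [if_pos rfl, inv_mul_cancel₀ (hd _), Matrix.one_apply_eq]
      · rw [if_neg (fun h => hik (Fin.rev_injective h)), mul_zero, Matrix.one_apply_ne hik]
    · intro b _ hb
      simp only [Matrix.of_apply]
      rw [if_neg hb, zero_mul]
    · intro h
      exact absurd (Finset.mem_univ _) h
  inv_val := by
    ext i k
    rw [Matrix.mul_apply, Finset.sum_eq_single (Fin.rev i)]
    · simp only [Matrix.of_apply, Fin.rev_rev, if_true]
      by_cases hik : k = i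
      · subst hik
        rw [if_pos rfl, mul_inv_cancel₀ (hd _), Matrix.one_apply_eq]
      · rw [if_neg hik, mul_zero, Matrix.one_apply_ne (Ne.symm hik)]
    · intro b _ hb
      simp only [Matrix.of_apply]
      rw [if_neg (fun h => hb (by rw [h, Fin.rev_rev])), zero_mul]
    · intro h
      exact absurd (Finset.mem_univ _) h

theorem swapC_single (d : Fin n → F) (hd : ∀ a, d a ≠ 0) (a b : Fin n) (x : F) :
    ((swapC d hd : GL (Fin n) F) : Matrix (Fin n) (Fin n) F) * Matrix.single b a x *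
      (((swapC d hd)⁻¹ : GL (Fin n) F) : Matrix (Fin n) (Fin n) F) =
    Matrix.single (Fin.rev b) (Fin.rev a) ((d b)⁻¹ * x * d a) := by
  change (Matrix.of fun i j => if j = Fin.rev i then (d j)⁻¹ else 0) * Matrix.single b a x *
    (Matrix.of fun i j => if i = Fin.rev j then d i else 0) = _
  ext i k
  rw [Matrix.mul_apply, Finset.sum_eq_single a]
  · rw [Matrix.mul_apply, Finset.sum_eq_single b]
    · simp only [Matrix.of_apply, Matrix.single_apply, and_self, if_true]
      by_cases h1 : b = Fin.rev i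
      · by_cases h2 : a = Fin.rev k
        · rw [if_pos h1, if_pos h2, if_pos ⟨by rw [h1, Fin.rev_rev], by rw [h2, Fin.rev_rev]⟩]
        · rw [if_neg h2, mul_zero, if_neg (fun h => h2 (by rw [← h.2, Fin.rev_rev]))]
      · rw [if_neg h1, zero_mul, zero_mul, if_neg (fun h => h1 (by rw [← h.1, Fin.rev_rev]))]
    · intro c _ hc
      rw [Matrix.single_apply, if_neg (fun h => hc h.1.symm), mul_zero]
    · intro h
      exact absurd (Finset.mem_univ _) h
  · intro c _ hc
    rw [Matrix.mul_apply, Finset.sum_eq_zero, zero_mul]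
    intro e _
    rw [Matrix.single_apply, if_neg (fun h => hc h.2.symm), mul_zero]
  · intro h
    exact absurd (Finset.mem_univ _) h

theorem val_tv {a b : Fin n} (hab : a ≠ b) (s : F) : (tv a b s : Matrix.SpecialLinearGroup (Fin n) F).1 =
    1 + Matrix.single a b s := by
  rw [tv_of_ne hab]
  rfl

theorem map_tv {a b : Fin n} (hab : a ≠ b) (s : F) (τ : F ≃+* F) :
    ((tv a b s : Matrix.SpecialLinearGroup (Fin n) F).1).map τ = 1 + Matrix.single a b (τ s) := by
  rw [val_tv hab]
  ext i j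
  simp only [Matrix.map_apply, Matrix.add_apply, map_add, Matrix.one_apply, Matrix.single_apply, apply_ite τ, map_one,
    map_zero]

theorem swapHom_tv (d : Fin n → F) (hd : ∀ a, d a ≠ 0) (τ : F ≃+* F) {a b : Fin n} (hab : a ≠ b) (s : F) :
    swapHom (swapC d hd) τ (tv a b s) = tv (Fin.rev b) (Fin.rev a) (-(d a * τ s * (d b)⁻¹)) := by
  have hab' : Fin.rev b ≠ Fin.rev a := fun h => hab (Fin.rev_injective h).symm
  apply Subtype.ext
  rw [coe_swapHom, ← tv_neg, val_tv hab', map_tv hab, map_neg, Matrix.transpose_add, Matrix.transpose_one,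
    Matrix.transpose_single, Matrix.mul_add, Matrix.mul_one, Matrix.add_mul, swapC_single, ← Units.val_mul,
    mul_inv_cancel, Units.val_one]
  congr 2
  ring

/-! ### the automorphisms -/

variable [Finite F] {Y : Type*} [Group Y] {φ : Matrix.SpecialLinearGroup (Fin n) F →* Y}

theorem hom_ext_tv (hn : 3 ≤ n) {α β : Matrix.SpecialLinearGroup (Fin n) F →* Y}
    (h : ∀ a b : Fin n, a ≠ b → ∀ s : F, α (tv a b s) = β (tv a b s)) : α = β := by
  have : Nontrivial (Fin n) := Fin.nontrivial_iff_two_le.2 (by omega)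
  ext x
  refine Cfsg.Agent.LieClassical.SLGen.transvection_induction (fun x => α x = β x) ?_ ?_ x
  · intro a b hab s
    have := h a b hab s
    rwa [tv_of_ne hab] at this
  · intro x y hx hy
    rw [map_mul, map_mul, hx, hy]

/-- **Elements which reverse the root groups.** -/
theorem exists_swap (hn : 3 ≤ n) (hinj : ∀ a b : Fin n, a ≠ b → Function.Injective fun t : F => φ (tv a b t)) {g : Y}
    (hg : ∀ a b : Fin n, a ≠ b → ∀ s : F, ∃ t : F, g * φ (tv a b s) * g⁻¹ = φ (tv (Fin.rev b) (Fin.rev a) t)) :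
    ∃ (τ : F ≃+* F) (C : GL (Fin n) F), ∀ x, g * φ x * g⁻¹ = φ (swapHom C τ x) := by
  choose! f hf using hg
  have hrev : ∀ {a b : Fin n}, a ≠ b → Fin.rev b ≠ Fin.rev a := fun hab h => hab (Fin.rev_injective h).symm
  obtain ⟨τ, d, hd, hτ⟩ := exists_ringEquiv hn (f := fun a b s => -f a b s) (by
      intro a b hab s t
      have h1 := hf a b hab (s + t)
      rw [tv_add, map_mul] at h1
      have h2 : g * (φ (tv a b s) * φ (tv a b t)) * g⁻¹ = (g * φ (tv a b s) * g⁻¹) * (g * φ (tv a b t) * g⁻¹) := by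
        group
      rw [h2, hf a b hab, hf a b hab, ← map_mul, ← tv_add] at h1
      change -f a b (s + t) = -f a b s + -f a b t
      rw [← hinj _ _ (hrev hab) h1]
      ring) (by
      intro a b c hab hbc hac s t
      have h1 := hf a c hac (s * t)
      rw [← tv_comm hab hbc hac, map_commutatorElement, conjugate_commutatorElement] at h1
      rw [hf a b hab, hf b c hbc, ← map_commutatorElement, ← commutatorElement_inv,
        tv_comm (hrev hbc) (hrev hab) (hrev hac), ← tv_neg] at h1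
      change -f a c (s * t) = -f a b s * -f b c t
      rw [← hinj _ _ (hrev hac) h1]
      ring) (by
      intro a b hab h0
      have h1 := hf a b hab 1
      rw [neg_eq_zero.1 h0, tv_zero, map_one, mul_inv_eq_one, mul_eq_left, ← map_one φ, ← tv_zero a b] at h1
      exact one_ne_zero (hinj a b hab h1))
  refine ⟨τ, swapC d hd, fun x => ?_⟩
  have h1 : (MulAut.conj g).toMonoidHom.comp φ = φ.comp (swapHom (swapC d hd) τ) := by
    refine hom_ext_tv hn fun a b hab s => ?_
    rw [MonoidHom.comp_apply, MonoidHom.comp_apply, swapHom_tv d hd τ hab]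
    change g * φ (tv a b s) * g⁻¹ = _
    rw [hf a b hab, ← hτ a b hab s, neg_neg]
  exact DFunLike.congr_fun h1 x

end gen

end Cfsg.Agent.H622.Van
end

-- part: H622/Van/Gal
section
/-!
# Cuspidal characters of `SL_n(F)` not invariant under the graph automorphisms

`F` finite, `[L : F] = n`, `Θ = powTheta θ (q - 1)` with `θ : L →*₀ ℂ` injective, `η` an irreducible constituent of the
restriction of `psi L Θ` to `SL_n(F)`. `NS n F` : `(q^n - 1)/(q - 1)` does not divide `(q - 1) (q^i + p^j)`.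

* `regular` : `Θ` is regular;
* `not_swap` : `η` is not invariant under `x ↦ C (x⁻¹)^{τ T} C⁻¹`.
-/

set_option autoImplicit false
set_option linter.unusedSectionVars false

open Polynomial Cfsg
open scoped ComplexConjugate

namespace Cfsg.Agent.H622.Van

open Cfsg.Agent.H139.Cusp Cfsg.Agent.Characters Matrix
open Cfsg.Agent.H53.HC.Gal (exists_frob_eq exists_frob_pow exists_ext psi_inv cuspMat_conj cuspMat_semilinear
  inner_ne_zero)

universe u v w

attribute [local instance] fintypeHom fintypeSub finite_quot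

/-- the number theoretic condition -/
def NS (n q : ℕ) : Prop :=
  ∀ p f : ℕ, p.Prime → 0 < f → q = p ^ f → ∀ i j : ℕ,
    ¬ (∑ a ∈ Finset.range n, q ^ a) ∣ (q - 1) * (q ^ i + p ^ j)

variable {F : Type u} [Field F] [Finite F] {L : Type w} [Field L] [Finite L] [Algebra F L] {n : ℕ}
  {θ : L →*₀ ℂ} (hθ : Function.Injective θ)

include hθ

/-- the character is regular -/
theorem regular (hL : Module.finrank F L = n) (hq0 : Nat.card F - 1 ≠ 0) :
    Regular F n (powTheta θ (Nat.card F - 1) hq0) := by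
  rw [regular_powTheta_iff hθ hq0 hL]
  intro i hi hin hdvd
  have hq : 2 ≤ Nat.card F := Finite.one_lt_card
  have h1 : 0 < Nat.card F ^ i - 1 := Nat.sub_pos_of_lt (Nat.one_lt_pow (by omega) hq)
  have h2 := Nat.le_of_dvd (Nat.mul_pos (Nat.pos_of_ne_zero hq0) h1) hdvd
  obtain ⟨m, rfl⟩ := Nat.exists_eq_add_of_lt hin
  have h3 : Nat.card F ^ i ≤ Nat.card F ^ (i + m) := Nat.pow_le_pow_right (by omega) (by omega)
  have h4 : (Nat.card F - 1) * (Nat.card F ^ i - 1) ≤ (Nat.card F - 1) * (Nat.card F ^ (i + m) - 1) :=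
    Nat.mul_le_mul_left _ (by omega)
  have h5 : (Nat.card F - 1) * (Nat.card F ^ (i + m) - 1) < Nat.card F ^ (i + m + 1) - 1 := by
    rw [pow_succ]
    obtain ⟨y, hy⟩ := Nat.exists_eq_add_of_le hq
    obtain ⟨x, hx⟩ : ∃ x, Nat.card F ^ (i + m) = 2 + x := by
      have : 2 ≤ Nat.card F ^ (i + m) := by
        have := Nat.one_lt_pow (n := i + m) (by omega) hq
        omega
      exact Nat.exists_eq_add_of_le this
    rw [hx, hy]
    have e1 : 2 + y - 1 = y + 1 := by omega
    have e2 : 2 + x - 1 = x + 1 := by omega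
    have e3 : (2 + x) * (2 + y) = x * y + 2 * x + 2 * y + 3 + 1 := by ring
    have e4 : (y + 1) * (x + 1) = x * y + x + y + 1 := by ring
    rw [e1, e2, e3, e4]
    omega
  omega

theorem no_common (hns : NS n (Nat.card F)) (hn : Module.finrank F L = n) {p : ℕ} [Fact p.Prime] [CharP F p]
    {σ : L ≃+* L} {j : ℕ}
    (hσ : ∀ x, σ x = x ^ p ^ j) (hq0 : Nat.card F - 1 ≠ 0) {Θ' : L →*₀ ℂ}
    (hΘ' : ∀ x, Θ' x = conj (powTheta θ (Nat.card F - 1) hq0 (σ x)))
    [Fintype (SpecialLinearGroup (Fin n) F)]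
    (h : classInner (psi (n := n) (F := F) L (powTheta θ (Nat.card F - 1) hq0) ∘ SpecialLinearGroup.toGL)
      (psi L Θ' ∘ SpecialLinearGroup.toGL) ≠ 0) : False := by
  have hp : p.Prime := Fact.out
  have : Fintype F := Fintype.ofFinite F
  obtain ⟨i, -, hi⟩ := exists_frob_eq hn _ _ h
  obtain ⟨f, hf⟩ : ∃ f : ℕ+, Fintype.card F = p ^ (f : ℕ) := by
    obtain ⟨f, -, hf⟩ := FiniteField.card F p
    exact ⟨f, hf⟩
  have hq : Nat.card F = p ^ (f : ℕ) := by rw [Nat.card_eq_fintype_card, hf]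
  have hq2 : 2 ≤ Nat.card F := Finite.one_lt_card
  obtain ⟨γ, hγ⟩ := IsCyclic.exists_ofOrder_eq_natCard (α := Lˣ)
  set q := Nat.card F with hqd
  -- the norm of `γ ^ (q - 1)`
  have hnorm : Algebra.norm F ((γ : L) ^ (q - 1)) = 1 := by
    rw [map_pow]
    have h1 : Algebra.norm F (γ : L) ≠ 0 := by
      rw [Ne, Algebra.norm_eq_zero_iff]
      exact γ.ne_zero
    have h3 : (Units.mk0 _ h1) ^ (q - 1) = 1 := by
      rw [hqd, ← Nat.card_units]
      exact pow_card_eq_one'
    exact congrArg Units.val h3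
  have h1 := hi _ hnorm
  rw [hΘ', conj_theta_eq, powTheta_apply, powTheta_apply, hσ] at h1
  -- `γ ^ ((q - 1) * ((q - 1) * (q ^ i + p ^ j))) = 1`
  have h2 : θ ((γ : L) ^ ((q - 1) * ((q - 1) * (q ^ i + p ^ j)))) = 1 := by
    have e1 : (q - 1) * ((q - 1) * (q ^ i + p ^ j)) = (q - 1) * q ^ i * (q - 1) + (q - 1) * p ^ j * (q - 1) := by ring
    rw [e1, pow_add, map_mul, pow_mul _ ((q - 1) * q ^ i), pow_mul _ ((q - 1) * p ^ j), map_pow θ (_ ^ _) (q - 1),
      map_pow θ (_ ^ _) (q - 1), pow_mul, pow_mul, ← h1, map_inv₀, inv_pow]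
    refine inv_mul_cancel₀ (pow_ne_zero _ ?_)
    rw [Ne, map_eq_zero θ]
    exact pow_ne_zero _ (pow_ne_zero _ γ.ne_zero)
  have h3 : γ ^ ((q - 1) * ((q - 1) * (q ^ i + p ^ j))) = 1 := by
    apply Units.ext
    rw [Units.val_pow_eq_pow_val, Units.val_one]
    exact hθ (by rw [h2, map_one])
  have h4 := orderOf_dvd_of_pow_eq_one h3
  rw [hγ, Nat.card_units, Module.natCard_eq_pow_finrank (K := F), hn, ← hqd] at h4
  have h5 : q ^ n - 1 = (q - 1) * ∑ a ∈ Finset.range n, q ^ a := by
    rw [mul_comm]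
    exact (geom_sum_mul_of_one_le (by omega) n).symm
  rw [h5] at h4
  have h6 := Nat.dvd_of_mul_dvd_mul_left (by omega) h4
  exact hns p f hp f.2 hq i j h6

/-- **No invariance under the graph automorphisms.** -/
theorem not_swap (hns : NS n (Nat.card F)) (hn : Module.finrank F L = n) (hq0 : Nat.card F - 1 ≠ 0)
    {η : SpecialLinearGroup (Fin n) F → ℂ} (hη : IsIrrCharacter _ η)
    (hc : IsCharacter _ (psi (n := n) (F := F) L (powTheta θ (Nat.card F - 1) hq0) ∘ SpecialLinearGroup.toGL - η))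
    (τ : F ≃+* F) (C : GL (Fin n) F) (α : SpecialLinearGroup (Fin n) F →* SpecialLinearGroup (Fin n) F)
    (hα : ∀ x, (α x : Matrix (Fin n) (Fin n) F) =
      C * ((x⁻¹ : SpecialLinearGroup (Fin n) F) : Matrix (Fin n) (Fin n) F).transpose.map τ *
        ((C⁻¹ : GL (Fin n) F) : Matrix (Fin n) (Fin n) F)) : η ∘ α ≠ η := by
  classical
  intro hinv
  have : Fintype F := Fintype.ofFinite F
  obtain ⟨p, hp'⟩ := CharP.exists F
  have : Fact p.Prime := ⟨CharP.char_is_prime F p⟩
  obtain ⟨j, hj⟩ := exists_frob_pow (p := p) τ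
  obtain ⟨σ, hσ, hστ⟩ := exists_ext (L := L) hj
  set Θ := powTheta θ (Nat.card F - 1) hq0 with hΘ
  let Θ₁ : L →*₀ ℂ := Θ.comp (σ : L →+* L).toMonoidWithZeroHom
  have hΘ₁ : ∀ x, Θ (σ x) = Θ₁ x := fun x => rfl
  refine no_common hθ hns hn hσ hq0 (Θ' := conjTheta Θ₁) (fun x => rfl) (inner_ne_zero hη hc ?_)
  have h1 : (psi (n := n) (F := F) L Θ ∘ SpecialLinearGroup.toGL) ∘ α =
      psi L (conjTheta Θ₁) ∘ SpecialLinearGroup.toGL := by
    funext x
    rw [Function.comp_apply, Function.comp_apply, Function.comp_apply, ← psi_inv hn Θ₁, ← map_inv]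
    have h2 : psi L Θ (SpecialLinearGroup.toGL (α x)) =
        cuspMat L Θ (((x⁻¹ : SpecialLinearGroup (Fin n) F) : Matrix (Fin n) (Fin n) F).transpose.map τ) := by
      let T : SpecialLinearGroup (Fin n) F := ⟨((x⁻¹ : SpecialLinearGroup (Fin n) F) :
        Matrix (Fin n) (Fin n) F).transpose.map τ, by
          have h3 : (((x⁻¹ : SpecialLinearGroup (Fin n) F) : Matrix (Fin n) (Fin n) F).transpose.map τ).det =
              τ (((x⁻¹ : SpecialLinearGroup (Fin n) F) : Matrix (Fin n) (Fin n) F).transpose.det) :=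
            (RingHom.map_det (τ : F →+* F) _).symm
          rw [h3, Matrix.det_transpose, (x⁻¹).2, map_one]⟩
      have h4 : ((C * SpecialLinearGroup.toGL T * C⁻¹ : GL (Fin n) F) : Matrix (Fin n) (Fin n) F) = (α x).1 := by
        rw [hα]; rfl
      have h5 := cuspMat_conj Θ C (SpecialLinearGroup.toGL T)
      rw [h4] at h5
      exact h5
    rw [h2, Matrix.transpose_map, cuspMat_transpose, cuspMat_semilinear hn hστ hΘ₁]
    rfl
  have h2 := Core.isCharacter_comp α hc
  have h3 : (psi (n := n) (F := F) L Θ ∘ SpecialLinearGroup.toGL - η) ∘ α =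
      psi L (conjTheta Θ₁) ∘ SpecialLinearGroup.toGL - η := by
    rw [← h1]
    funext x
    change (psi L Θ ∘ SpecialLinearGroup.toGL) (α x) - (η ∘ α) x = _
    rw [hinv]
    rfl
  rw [h3] at h2
  exact h2

end Cfsg.Agent.H622.Van
end

-- part: H622/Van/Chain
section
/-!
Maximal parabolic subgroups with a Levi subgroup of type `A_m`, `2 ≤ m`, with `N_W(W_J) ≠ W_J`: irreducible
Harish-Chandra induced characters.

* `exists_chain_ns` : cuspidal characters of `MJ` which are not invariant under elements reversing the chain;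
* `flip_of` : elements outside `W_J` which permute the simple roots of `J` reverse the chain;
* `exists_irr_chain` : the irreducible characters.
-/

set_option autoImplicit false
set_option linter.unusedSectionVars false

namespace Cfsg.Agent.H622.Van

open Cfsg Cfsg.Agent.Characters CoxeterSystem Cfsg.Agent.ChevalleyStructure.CoxeterGeom Cfsg.Agent.Tits.Roots
  Cfsg.Agent.Tits.Core Cfsg.Agent.Nodes.Reps Cfsg.Agent.Nodes.BNOf Cfsg.Agent.Nodes.StabComb
  Cfsg.Agent.Nodes.RootsA Cfsg.Agent.Nodes.SubComb Cfsg.Agent.Nodes.LeviDec Cfsg.Agent.Nodes.OppDec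
  Cfsg.Agent.Nodes.Bruhat
open Cfsg.Agent.LieRecognition.BNCox (cA cA_apply)
open Cfsg.Agent.LieRecognition.CoxClass (mA)
open Cfsg.Agent.TitsThree.KSideA (tv tv_of_ne tv_add tv_zero tv_neg tv_comm)
open Cfsg.Agent.H139.Cusp (powTheta powTheta_algebraMap psi)
open Cfsg.Agent.H622.Levi (cr cr_neg cr_succ Co exists_co exists_sl_con exists_descend swapHom coe_swapHom mem_rootsJ)
open Cfsg.Agent.H53.HC (conjME conjME_coe Cusp Perm)
open Matrix
open scoped commutatorElement ComplexConjugate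

variable {I W Y : Type*} [Fintype I] [DecidableEq I] [Group W] [Group Y] {M : CoxeterMatrix I}
  {cs : CoxeterSystem M W} {A : I → I → ℤ} {h : IsCartan M A} {p : ℕ} {T : Subgroup Y} {n : I → Y}
  {X : (I → ℤ) → Subgroup Y}

section cnj

variable {F : Type} [Field F] {m : ℕ} {φ : SpecialLinearGroup (Fin (m + 1)) F →* Y}

/-- injectivity on root groups -/
theorem tv_injective (hm : 2 ≤ m) (hker : φ.ker ≤ Subgroup.center (SpecialLinearGroup (Fin (m + 1)) F))
    {a b : Fin (m + 1)} (hab : a ≠ b) : Function.Injective fun t : F => φ (tv a b t) := by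
  obtain ⟨c, hca, hcb⟩ := exists_third (n := m + 1) (by omega) a b
  intro s t hst
  have h2 : (tv a b s)⁻¹ * tv a b t ∈ φ.ker := by
    rw [MonoidHom.mem_ker, map_mul, map_inv]
    exact inv_mul_eq_one.2 hst
  have h3 := hker h2
  rw [← tv_neg, ← tv_add] at h3
  have h4 : ⁅tv a b (-s + t), tv b c (1 : F)⁆ = 1 := by
    rw [commutatorElement_eq_one_iff_mul_comm]
    exact (Subgroup.mem_center_iff.1 h3 _).symm
  rw [tv_comm hab hcb.symm hca.symm, mul_one] at h4
  have h5 : (tv a c (-s + t) : SpecialLinearGroup (Fin (m + 1)) F).1 a c =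
      (1 : Matrix (Fin (m + 1)) (Fin (m + 1)) F) a c :=
    congrFun (congrFun (congrArg Subtype.val h4) a) c
  rw [val_tv hca.symm, Matrix.add_apply, Matrix.single_apply_same] at h5
  have h6 := add_eq_left.1 h5
  rw [neg_add_eq_zero] at h6
  exact h6

/-- conjugation of root groups -/
theorem conj_of {k : Fin m → I} (C : Co X k F φ) {g : Y} {a b a' b' : Fin (m + 1)} (hab : a ≠ b) (hab' : a' ≠ b')
    (hg : cj g (X (cr k a b)) = X (cr k a' b')) (s : F) : ∃ t : F, g * φ (tv a b s) * g⁻¹ = φ (tv a' b' t) := by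
  have h1 : φ (tv a b s) ∈ X (cr k a b) := by
    have h0 : φ (tv a b s) ∈ (X (cr k a b) : Set Y) := by
      rw [C.root a b hab, tv_of_ne hab]
      exact ⟨s, rfl⟩
    exact h0
  have h2 : g * φ (tv a b s) * g⁻¹ ∈ (X (cr k a' b') : Set Y) := by
    change _ ∈ X (cr k a' b')
    rw [← hg, mem_cj]
    have : g⁻¹ * (g * φ (tv a b s) * g⁻¹) * g = φ (tv a b s) := by group
    rwa [this]
  rw [C.root a' b' hab'] at h2
  obtain ⟨t, ht⟩ := h2
  exact ⟨t, by rw [tv_of_ne hab']; exact ht.symm⟩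

end cnj

/-- `g` reverses the root groups of the chain `k` -/
def Rev (X : (I → ℤ) → Subgroup Y) {m : ℕ} (k : Fin m → I) (g : Y) : Prop :=
  ∀ a b : Fin (m + 1), a ≠ b → cj g (X (cr k a b)) = X (cr k (Fin.rev b) (Fin.rev a))

section chain

variable [Finite W] [Finite Y] {F : Type} [Field F] [Finite F] {m : ℕ}
  {φ : SpecialLinearGroup (Fin (m + 1)) F →* Y} {k : Fin m ↪ I}

/-- **Cuspidal characters for chains, not invariant under the reversing elements.** -/
theorem exists_chain_ns (C : Co X k F φ) (hk : ∀ i j, M (k i) (k j) = cA m i j) (hm : 2 ≤ m)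
    (hns : NS (m + 1) (Nat.card F)) :
    ∃ (θ : ↥(H53.HC.MJ cs h X (Set.range k)) → ℂ) (e t : ℕ), Cusp cs h X (Set.range k) θ ∧
      (∀ (g : Y) (hg : g ∈ Subgroup.normalizer (H53.HC.MJ cs h X (Set.range k) : Set Y)), Rev X k g →
        θ ∘ conjME (H53.HC.MJ cs h X (Set.range k)) hg ≠ θ) ∧
      θ 1 = e ∧ e * t = ∏ i ∈ Finset.range m, (Nat.card F ^ (i + 1) - 1) ∧
      t ∣ Nat.gcd (m + 1) (Nat.card F - 1) := by
  have hq0 : Nat.card F - 1 ≠ 0 := by
    have : 1 < Nat.card F := Finite.one_lt_card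
    omega
  obtain ⟨L, _, _, _, hL⟩ : ∃ (L : Type) (_ : Field L) (_ : Algebra F L) (_ : Finite L),
      Module.finrank F L = m + 1 := by
    obtain ⟨p, hp⟩ := CharP.exists F
    have : Fact p.Prime := ⟨CharP.char_is_prime F p⟩
    have : NeZero (m + 1) := ⟨by omega⟩
    exact ⟨FiniteField.Extension F p (m + 1), inferInstance, inferInstance, inferInstance,
      FiniteField.finrank_extension F p (m + 1)⟩
  obtain ⟨θ₀, hθ₀⟩ := H139.Cusp.exists_theta L
  obtain ⟨η, e, t, hη, hc, hz, hs, he, het, ht⟩ := exists_sl_con (m := m)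
    (Ψ := psi (n := m + 1) (F := F) L (powTheta θ₀ (Nat.card F - 1) hq0)) (by omega)
    (H139.Cusp.psi_isIrr _ hL (regular hθ₀ hL hq0)) (H139.Cusp.psi_isCusp L _)
    (fun c => by
      have := H139.Cusp.psi_scalar (powTheta θ₀ (Nat.card F - 1) hq0) hL c 1
      rw [mul_one] at this
      rw [this, powTheta_algebraMap hq0 dvd_rfl c.ne_zero, one_mul])
    (H139.Cusp.psi_one L _ (by omega))
  obtain ⟨θ, hθ, hv⟩ := exists_descend (cs := cs) (h := h) C hk (by omega) hη hz hs
  have hran : φ.range = H53.HC.MJ cs h X (Set.range k) := C.range hk (by omega)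
  have hmem : ∀ x, φ x ∈ H53.HC.MJ cs h X (Set.range k) := fun x => hran ▸ ⟨x, rfl⟩
  have hinj : ∀ a b : Fin (m + 1), a ≠ b → Function.Injective fun t : F => φ (tv a b t) :=
    fun a b hab => tv_injective hm C.ker hab
  refine ⟨θ, e, t, hθ, ?_, (hv 1 1 (map_one φ).symm).trans he, het, ht⟩
  intro g hg hrev hcon
  obtain ⟨τ, D, hD⟩ := exists_swap (n := m + 1) (by omega) hinj
    (fun a b hab => conj_of C hab (fun h => hab (Fin.rev_injective h).symm) (hrev a b hab))
  refine not_swap hθ₀ hns hL hq0 hη hc τ D (swapHom D τ) (fun x => ?_) ?_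
  · rw [Matrix.transpose_map]
    exact coe_swapHom D τ x
  · funext x
    rw [Function.comp_apply, ← hv x ⟨φ x, hmem x⟩ rfl, ← congrFun hcon, Function.comp_apply]
    symm
    apply hv
    rw [conjME_coe]
    exact hD x

end chain

/-! ### the Weyl group -/

/-- injective walks on a path -/
theorem walk {m : ℕ} (g : ℕ → ℤ) (h1 : ∀ i, i + 1 < m → g (i + 1) = g i + 1 ∨ g (i + 1) = g i - 1)
    (h2 : ∀ i, i + 2 < m → g (i + 2) ≠ g i) (h3 : ∀ i, i < m → 0 ≤ g i ∧ g i < m) :
    (∀ i, i < m → g i = i) ∨ ∀ i, i < m → g i = m - 1 - i := by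
  rcases Nat.lt_or_ge m 2 with hm | hm
  · left
    intro i hi
    have := h3 i hi
    omega
  · rcases h1 0 (by omega) with h0 | h0
    · left
      have key : ∀ i, i + 1 < m → g i = g 0 + i ∧ g (i + 1) = g 0 + i + 1 := by
        intro i
        induction i with
        | zero => intro _; rw [zero_add] at h0 ⊢; constructor <;> push_cast <;> omega
        | succ i ih =>
          intro hi
          obtain ⟨e1, e2⟩ := ih (by omega)
          have e3 := h2 i (by omega)
          rcases h1 (i + 1) hi with e4 | e4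
          · push_cast
            constructor <;> omega
          · exfalso
            apply e3
            rw [show i + 2 = i + 1 + 1 by ring]
            omega
      have hl := key (m - 2) (by omega)
      have hl2 := h3 (m - 2 + 1) (by omega)
      have h00 := h3 0 (by omega)
      have g0 : g 0 = 0 := by
        have : ((m - 2 : ℕ) : ℤ) = m - 2 := by omega
        omega
      intro i hi
      rcases Nat.lt_or_ge (i + 1) m with h4 | h4
      · have := key i h4
        omega
      · have e : i = m - 2 + 1 := by omega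
        rw [e]
        push_cast
        omega
    · right
      have key : ∀ i, i + 1 < m → g i = g 0 - i ∧ g (i + 1) = g 0 - i - 1 := by
        intro i
        induction i with
        | zero => intro _; rw [zero_add] at h0 ⊢; constructor <;> push_cast <;> omega
        | succ i ih =>
          intro hi
          obtain ⟨e1, e2⟩ := ih (by omega)
          have e3 := h2 i (by omega)
          rcases h1 (i + 1) hi with e4 | e4
          · exfalso
            apply e3
            rw [show i + 2 = i + 1 + 1 by ring]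
            omega
          · push_cast
            constructor <;> omega
      have hl := key (m - 2) (by omega)
      have hl2 := h3 (m - 2 + 1) (by omega)
      have h00 := h3 0 (by omega)
      have g0 : g 0 = m - 1 := by
        have : ((m - 2 : ℕ) : ℤ) = m - 2 := by omega
        omega
      intro i hi
      rcases Nat.lt_or_ge (i + 1) m with h4 | h4
      · have := key i h4
        omega
      · have e : i = m - 2 + 1 := by omega
        rw [e]
        push_cast
        omega

theorem sr_inj {i j : I} (hij : (sr i : I → ℤ) = sr j) : i = j := by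
  by_contra hne
  have := congrFun hij i
  rw [sr_self, sr_ne hne] at this
  exact one_ne_zero this

/-- elements fixing the simple roots of `J` -/
theorem dvd_of_fix [Finite W] {J : Set I} {j : I} (hJ : ∀ i, i ∈ J ↔ i ≠ j) {w : W} (hw : Perm cs h J w)
    (hwJ : w ∉ WJ cs J) (hfix : ∀ i, i ≠ j → rep cs h w (sr i) = sr i) {N : ℤ} {z : I → ℤ} (hz0 : z j = 0)
    (hz : ∀ c, c ≠ j → N ∣ ∑ i, z i * A i c) : N ∣ 2 * ∑ i, z i * A i j := by
  set y := rep cs h w (sr j) with hy
  have hyj : y j = -1 := by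
    rw [hy, H53.HC.apply_eq_neg hJ hw hwJ, sr_self]
  -- the sum of the pairings
  have h1 : ∑ i, z i * pairing A i y = ∑ i, z i * A i j := by
    refine Finset.sum_congr rfl fun i _ => ?_
    by_cases hi : i = j
    · rw [hi, hz0, zero_mul, zero_mul]
    · rw [hy, H53.HC.pairing_rep (hfix i hi), sr, pairing_single, mul_one]
  have h2 : ∑ i, z i * pairing A i y = ∑ c, (∑ i, z i * A i c) * y c := by
    unfold pairing
    simp only [Finset.mul_sum, Finset.sum_mul]
    rw [Finset.sum_comm]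
    refine Finset.sum_congr rfl fun c _ => Finset.sum_congr rfl fun i _ => ?_
    ring
  have h3 : N ∣ (∑ c, (∑ i, z i * A i c) * y c) - (∑ i, z i * A i j) * y j := by
    rw [← Finset.sum_erase_eq_sub (Finset.mem_univ j)]
    refine Finset.dvd_sum fun c hc => Dvd.dvd.mul_right (hz c (Finset.ne_of_mem_erase hc)) _
  rw [← h2, h1, hyj] at h3
  have e : 2 * ∑ i, z i * A i j = (∑ i, z i * A i j) - (∑ i, z i * A i j) * -1 := by ring
  rw [e]
  exact h3

/-- **Elements outside `W_J` permuting the simple roots of `J` reverse the chain.** -/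
theorem flip_of [Finite W] {m : ℕ} (k : Fin m ↪ I) (hk : ∀ i j, M (k i) (k j) = cA m i j) {j : I}
    (hJ : ∀ i, i ∈ Set.range k ↔ i ≠ j) {w : W} (hw : Perm cs h (Set.range k) w) (hwJ : w ∉ WJ cs (Set.range k))
    {N : ℤ} {z : I → ℤ} (hz0 : z j = 0) (hz : ∀ c, c ≠ j → N ∣ ∑ i, z i * A i c)
    (hzj : ¬ N ∣ 2 * ∑ i, z i * A i j) (i : Fin m) : rep cs h w (sr (k i)) = sr (k (Fin.rev i)) := by
  have h1 : ∀ i : Fin m, ∃ i' : Fin m, rep cs h w (sr (k i)) = sr (k i') := by
    intro i
    obtain ⟨_, ⟨i', rfl⟩, e⟩ := hw.2 (k i) ⟨i, rfl⟩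
    exact ⟨i', e⟩
  choose π hπ using h1
  have hinj : Function.Injective π := by
    intro a b hab
    have h2 : rep cs h w (sr (k a)) = rep cs h w (sr (k b)) := by rw [hπ, hπ, hab]
    have h3 := congrArg (rep cs h w⁻¹) h2
    rw [rep_inv_apply, rep_inv_apply] at h3
    exact k.injective (sr_inj h3)
  have hcar : ∀ a b : Fin m, A (k (π a)) (k (π b)) = A (k a) (k b) := fun a b => H53.HC.cartan_rep (hπ a) (hπ b)
  -- neighbours
  have hadj : ∀ a b : Fin m, a.val + 1 = b.val → (π a).val + 1 = (π b).val ∨ (π b).val + 1 = (π a).val := by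
    intro a b hab
    have h2 : M (k a) (k b) = 3 := by
      rw [hk, cA_apply]
      unfold mA
      rw [if_neg (by omega), if_pos (Or.inl hab)]
    have h3 := hcar a b
    rw [(Cfsg.Agent.H35.ExcIdx.cartan_three h h2).1] at h3
    by_contra hcon
    push Not at hcon
    have h4 : M (k (π a)) (k (π b)) = 2 := by
      rw [hk, cA_apply]
      unfold mA
      rw [if_neg, if_neg]
      · rintro (h5 | h5)
        · exact hcon.1 h5
        · exact hcon.2 h5
      · intro h5
        have := hinj (Fin.ext h5)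
        rw [this] at hab
        omega
    rw [(Cfsg.Agent.H35.ExcIdx.cartan_two h h4).1] at h3
    omega
  let g : ℕ → ℤ := fun i => if hi : i < m then (π ⟨i, hi⟩).val else 0
  have hg : ∀ (i : ℕ) (hi : i < m), g i = (π ⟨i, hi⟩).val := fun i hi => dif_pos hi
  rcases walk (m := m) g (by
      intro i hi
      rw [hg (i + 1) hi, hg i (by omega)]
      rcases hadj ⟨i, by omega⟩ ⟨i + 1, hi⟩ rfl with h2 | h2 <;> omega) (by
      intro i hi h2
      rw [hg (i + 2) hi, hg i (by omega)] at h2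
      have h3 : π ⟨i + 2, hi⟩ = π ⟨i, by omega⟩ := Fin.ext (by exact_mod_cast h2)
      have h4 := congrArg Fin.val (hinj h3)
      simp at h4) (by
      intro i hi
      rw [hg i hi]
      have := (π ⟨i, hi⟩).2
      omega) with h2 | h2
  · exfalso
    apply hzj
    refine dvd_of_fix hJ hw hwJ (fun i hi => ?_) hz0 hz
    obtain ⟨a, rfl⟩ := (hJ i).2 hi
    rw [hπ]
    congr 2
    have h3 := h2 a.val a.2
    rw [hg a.val a.2] at h3
    exact Fin.ext (by exact_mod_cast h3)
  · rw [hπ]
    congr 2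
    have h3 := h2 i.val i.2
    rw [hg i.val i.2] at h3
    apply Fin.ext
    rw [Fin.val_rev]
    have h4 := i.2
    change ((π i).val : ℤ) = m - 1 - i.val at h3
    omega

theorem rtA_rev {m : ℕ} (a b : Fin (m + 1)) (i : Fin m) :
    rtA (Fin.rev b) (Fin.rev a) i = rtA a b (Fin.rev i) := by
  rw [rtA_apply, rtA_apply, Fin.val_rev, Fin.val_rev, Fin.val_rev]
  have h1 := a.2
  have h2 := b.2
  have h3 := i.2
  split_ifs <;> omega

/-- elements reversing the simple roots reverse the roots -/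
theorem rep_cr {m : ℕ} {k : Fin m → I} {w : W} (hw : ∀ i, rep cs h w (sr (k i)) = sr (k (Fin.rev i)))
    (a b : Fin (m + 1)) : rep cs h w (cr k a b) = cr k (Fin.rev b) (Fin.rev a) := by
  unfold cr
  rw [iota_apply, iota_apply, map_sum]
  rw [← Equiv.sum_comp (Fin.revPerm (n := m)) (fun j => rtA (Fin.rev b) (Fin.rev a) j • sr (k j))]
  refine Finset.sum_congr rfl fun i _ => ?_
  rw [map_smul, hw, rtA_rev]
  simp only [Fin.revPerm_apply, Fin.rev_rev]

/-- **Irreducible characters.** -/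
theorem exists_irr_chain [Finite W] [Fintype Y] (R : RGD cs h p T n X) (hG : GG cs h T X = ⊤) {m : ℕ} (hm : 2 ≤ m)
    (k : Fin m ↪ I) (hk : ∀ i j, M (k i) (k j) = cA m i j) {j : I} (hJ : ∀ i, i ∈ Set.range k ↔ i ≠ j)
    {N : ℤ} {z : I → ℤ} (hz0 : z j = 0) (hz : ∀ c, c ≠ j → N ∣ ∑ i, z i * A i c)
    (hzj : ¬ N ∣ 2 * ∑ i, z i * A i j) {q : ℕ} (i₀ : Fin m) (hq : Nat.card (X (sr (k i₀))) = q)
    (hns : NS (m + 1) q) :
    ∃ χ : Y → ℂ, IsIrrCharacter Y χ ∧ ∃ a e t : ℕ, 0 < a ∧
      χ 1 = (((PJ cs h T X (Set.range k)).index * (a * e) : ℕ) : ℂ) ∧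
      e * t = ∏ i ∈ Finset.range m, (q ^ (i + 1) - 1) ∧ t ∣ Nat.gcd (m + 1) (q - 1) := by
  obtain ⟨F, _, _, φ, C⟩ := exists_co R hm k hk
  have hcard := C.card i₀
  rw [hq] at hcard
  rw [hcard] at hns
  obtain ⟨θ, e, t, hθ, hn, he, het, ht⟩ := exists_chain_ns (cs := cs) (h := h) C hk hm hns
  rw [← hcard] at het ht
  obtain ⟨χ, hχ, a, ha, hχ1⟩ := H53.HC.exists_irr_MJ R hG (Set.range k) hθ.irr hθ.van (by
    intro w g hg hw hp
    have hflip := flip_of (cs := cs) (h := h) k hk hJ hp.inv (fun hh => hw (by simpa using inv_mem hh)) hz0 hz hzj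
    by_contra hcon
    push Not at hcon
    refine hn g⁻¹ (inv_mem (H53.HC.rp_mem_normalizer_MJ R hg hp)) ?_ ?_
    · intro a b hab
      rw [R.conj_rp hg.inv ((mem_rootsJ (cs := cs) (h := h) hk).2 ⟨a, b, hab, rfl⟩).1, rep_cr hflip]
    · funext x
      rw [Function.comp_apply]
      refine Eq.trans ?_ (hcon x x.2)
      congr 1
      apply Subtype.ext
      rw [conjME_coe, inv_inv])
  refine ⟨χ, hχ, a, e, t, ha, ?_, het, ht⟩
  rw [hχ1, he]
  push_cast
  ring

end Cfsg.Agent.H622.Van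
end
end
end
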